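import Mathlib.GroupTheory.SpecificGroups.Quaternion
import Mathlib.GroupTheory.PGroup
import Mathlib.GroupTheory.SpecificGroups.Cyclic
import Mathlib.NumberTheory.Multiplicity
import Mathlib.Tactic
import Cfsg.Agent.Lib.NormalAbelian
import Cfsg.Agent.Lib.DihedralRecog

set_option autoImplicit false

/-!
# Finite `p`-groups with a unique subgroup of order `p`

The key lemmas are stated elementwise: `UniqueP p G` says that any two elements of order `p`
generate the same subgroup.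
-/

namespace Cfsg.Agent.Solvable.UniqueOrderP

open Subgroup Finset

/-- Any two elements of order `p` (in fact any `y` with `y ^ p = 1` and any `x` of order `p`)
generate comparable subgroups. -/
def UniqueP (p : ℕ) (G : Type*) [Group G] : Prop :=
  ∀ x y : G, x ≠ 1 → x ^ p = 1 → y ^ p = 1 → y ∈ Subgroup.zpowers x

theorem uniqueP_def (p : ℕ) (G : Type*) [Group G] : UniqueP p G ↔
    ∀ x y : G, x ≠ 1 → x ^ p = 1 → y ^ p = 1 → y ∈ Subgroup.zpowers x := Iff.rfl

/-- The subgroup form of the hypothesis gives the element form. -/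
theorem uniqueP_of_subgroup {G : Type*} [Group G] (p : ℕ) [hp : Fact p.Prime]
    (huniq : ∀ H K : Subgroup G, Nat.card H = p → Nat.card K = p → H = K) : UniqueP p G := by
  intro x y hx hxp hyp
  by_cases hy : y = 1
  · subst hy; exact one_mem _
  have hox : orderOf x = p := orderOf_eq_prime hxp hx
  have hoy : orderOf y = p := orderOf_eq_prime hyp hy
  have := huniq (zpowers x) (zpowers y) (by rw [Nat.card_zpowers, hox])
    (by rw [Nat.card_zpowers, hoy])
  rw [this]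
  exact mem_zpowers y

section cyclic

/-- An element `y` with `y ^ p = 1` lies in every nontrivial cyclic `p`-subgroup. -/
theorem mem_zpowers_of_pow_eq_one {G : Type*} [Group G] {p : ℕ} [hp : Fact p.Prime]
    (hU : UniqueP p G) {a y : G} {n : ℕ} (ha : orderOf a = p ^ n) (hn : n ≠ 0) (hy : y ^ p = 1) :
    y ∈ zpowers a := by
  obtain ⟨m, rfl⟩ := Nat.exists_eq_succ_of_ne_zero hn
  have h1 : a ^ p ^ m ≠ 1 := by
    intro h
    have := orderOf_dvd_of_pow_eq_one h
    rw [ha, Nat.pow_dvd_pow_iff_le_right hp.out.one_lt] at this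
    omega
  have h2 : (a ^ p ^ m) ^ p = 1 := by
    rw [← pow_mul, ← pow_succ, ← ha, pow_orderOf_eq_one]
  have h3 := hU _ y h1 h2 hy
  exact (zpowers_le.2 (pow_mem (mem_zpowers a) _)) h3

/-- A commutative subgroup of a finite `p`-group with `UniqueP` is cyclic, in generator form. -/
theorem exists_eq_zpowers_of_comm {G : Type*} [Group G] [Finite G] (p : ℕ) [hp : Fact p.Prime]
    (hG : IsPGroup p G) (hU : UniqueP p G) (A : Subgroup G) (hA : IsMulCommutative A) :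
    ∃ a : G, A = zpowers a := by
  classical
  obtain ⟨a, haA, hmax⟩ : ∃ a ∈ A, ∀ b ∈ A, orderOf b ≤ orderOf a := by
    obtain ⟨a, ha, h⟩ := Set.exists_max_image (A : Set G) orderOf (Set.toFinite _)
      ⟨1, A.one_mem⟩
    exact ⟨a, ha, h⟩
  refine ⟨a, le_antisymm ?_ (zpowers_le.2 haA)⟩
  by_contra hnot
  obtain ⟨b, hbA, hb⟩ := SetLike.not_le_iff_exists.1 hnot
  obtain ⟨n, hn⟩ := (IsPGroup.iff_orderOf.1 hG) a
  have hex : ∃ k, b ^ p ^ k ∈ zpowers a := by
    obtain ⟨k, hk⟩ := hG b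
    exact ⟨k, by rw [hk]; exact one_mem _⟩
  have hspec := Nat.find_spec hex
  have hmin := fun m => Nat.find_min hex (m := m)
  generalize hk : Nat.find hex = k at hspec hmin
  rcases k with _ | k
  · simp at hspec; exact hb hspec
  · set c := b ^ p ^ k with hc
    have hcA : c ∈ A := pow_mem hbA _
    have hcn : c ∉ zpowers a := hmin k (Nat.lt_succ_self k)
    have hcp : c ^ p ∈ zpowers a := by rw [hc, ← pow_mul, ← pow_succ]; exact hspec
    obtain ⟨i, hi⟩ := mem_zpowers_iff.1 hcp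
    -- order of c divides p ^ n
    have hcord : c ^ p ^ n = 1 := by
      obtain ⟨m, hm⟩ := (IsPGroup.iff_orderOf.1 hG) c
      have h1 := hmax c hcA
      rw [hm, hn] at h1
      have h2 : m ≤ n := (Nat.pow_le_pow_iff_right hp.out.one_lt).1 h1
      apply orderOf_dvd_iff_pow_eq_one.1
      rw [hm]; exact pow_dvd_pow _ h2
    have hn0 : n ≠ 0 := by
      rintro rfl
      rw [pow_zero, pow_one] at hcord
      exact hcn (by rw [hcord]; exact one_mem _)
    obtain ⟨n, rfl⟩ := Nat.exists_eq_succ_of_ne_zero hn0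
    have hpi : (p : ℤ) ∣ i := by
      have h1 : a ^ (i * (p : ℤ) ^ n) = 1 := by
        rw [zpow_mul, hi]
        have : ((p : ℤ) ^ n) = ((p ^ n : ℕ) : ℤ) := by push_cast; rfl
        rw [this, zpow_natCast, ← pow_mul, ← pow_succ']
        exact hcord
      rw [← orderOf_dvd_iff_zpow_eq_one, hn] at h1
      push_cast at h1
      rw [pow_succ, mul_comm i] at h1
      exact (mul_dvd_mul_iff_left (pow_ne_zero n (by exact_mod_cast hp.out.ne_zero))).1 h1
    obtain ⟨j, rfl⟩ := hpi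
    have hcomm : Commute c (a ^ (-j)) := by
      have h := mul_comm' (⟨c, hcA⟩ : A) ⟨a ^ (-j), zpow_mem haA _⟩
      exact congrArg Subtype.val h
    have hd : (c * a ^ (-j)) ^ p = 1 := by
      rw [hcomm.mul_pow, ← hi, ← zpow_natCast, ← zpow_mul, ← zpow_add]
      have : (p : ℤ) * j + -j * (p : ℤ) = 0 := by ring
      rw [this, zpow_zero]
    have hmem := mem_zpowers_of_pow_eq_one hU hn hn0 hd
    apply hcn
    have : c = (c * a ^ (-j)) * a ^ j := by rw [mul_assoc, ← zpow_add, neg_add_cancel, zpow_zero, mul_one]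
    rw [this]
    exact mul_mem hmem (zpow_mem (mem_zpowers a) _)

end cyclic

section conj

variable {G : Type*} [Group G] {a x : G} {r : ℤ}

theorem mul_zpow_of_conj (h : x * a * x⁻¹ = a ^ r) (m : ℤ) : x * a ^ m = a ^ (r * m) * x := by
  rw [zpow_mul, ← h, conj_zpow]; group

theorem pow_mul_of_conj (h : x * a * x⁻¹ = a ^ r) (j : ℤ) (k : ℕ) :
    (a ^ j * x) ^ k = a ^ (j * ∑ i ∈ range k, r ^ i) * x ^ k := by
  induction k with
  | zero => simp
  | succ k ih =>
    rw [pow_succ', ih, geom_sum_succ, pow_succ' x]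
    generalize (∑ i ∈ range k, r ^ i) = S
    calc a ^ j * x * (a ^ (j * S) * x ^ k) = a ^ j * (x * a ^ (j * S)) * x ^ k := by group
      _ = a ^ j * (a ^ (r * (j * S)) * x) * x ^ k := by rw [mul_zpow_of_conj h]
      _ = a ^ (j + r * (j * S)) * (x * x ^ k) := by rw [zpow_add]; group
      _ = a ^ (j * (r * S + 1)) * (x * x ^ k) := by congr 2; ring

theorem pow_mul_zpow_of_conj (h : x * a * x⁻¹ = a ^ r) (m : ℤ) (k : ℕ) :
    x ^ k * a ^ m = a ^ (r ^ k * m) * x ^ k := by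
  induction k with
  | zero => simp
  | succ k ih =>
    rw [pow_succ' x, mul_assoc, ih, ← mul_assoc, mul_zpow_of_conj h, mul_assoc]
    congr 2; ring

theorem zpow_eq_zpow_iff_dvd (a : G) (m n : ℤ) : a ^ m = a ^ n ↔ (orderOf a : ℤ) ∣ m - n := by
  rw [eq_comm, zpow_eq_zpow_iff_modEq, Int.modEq_iff_dvd]

theorem dvd_pow_sub_one (h : x * a * x⁻¹ = a ^ r) {k : ℕ} (hk : x ^ k ∈ zpowers a) :
    (orderOf a : ℤ) ∣ r ^ k - 1 := by
  have h1 := pow_mul_zpow_of_conj h 1 k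
  obtain ⟨t, ht⟩ := mem_zpowers_iff.1 hk
  rw [← ht, ← zpow_add, ← zpow_add, zpow_eq_zpow_iff_dvd] at h1
  have h2 : t + 1 - (r ^ k * 1 + t) = -(r ^ k - 1) := by ring
  rwa [h2, dvd_neg] at h1

/-- If the geometric sum has `p`-adic valuation exactly one then the coset `⟨a⟩ x` contains an
element whose `p`-th power is `1`. -/
theorem exists_pow_eq_one {p n : ℕ} [hp : Fact p.Prime] (ha : orderOf a = p ^ n)
    (h : x * a * x⁻¹ = a ^ r) (hr : ¬ ((p : ℤ) ^ n ∣ r - 1)) (hx : x ^ p ∈ zpowers a) {u : ℤ}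
    (hS : ∑ i ∈ range p, r ^ i = p * u) (hu : IsCoprime u (p : ℤ)) :
    ∃ j : ℤ, (a ^ j * x) ^ p = 1 := by
  obtain ⟨t, ht⟩ := mem_zpowers_iff.1 hx
  -- t is divisible by p
  have h1 : (orderOf a : ℤ) ∣ t * (r - 1) := by
    have h2 : x * a ^ t = a ^ (r * t) * x := mul_zpow_of_conj h t
    have h3 : x * a ^ t = a ^ t * x := by rw [ht, ← pow_succ, ← pow_succ']
    have h4 : a ^ (r * t) = a ^ t := mul_right_cancel (h2.symm.trans h3)
    rw [zpow_eq_zpow_iff_dvd] at h4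
    have h5 : r * t - t = t * (r - 1) := by ring
    rwa [h5] at h4
  rw [ha] at h1
  push_cast at h1
  have hpp : Prime (p : ℤ) := Nat.prime_iff_prime_int.1 hp.out
  have hpt : (p : ℤ) ∣ t := by
    by_contra hpt
    apply hr
    have hc : IsCoprime ((p : ℤ) ^ n) t := by
      apply IsCoprime.pow_left
      exact (hpp.coprime_iff_not_dvd).2 hpt
    exact hc.dvd_of_dvd_mul_left h1
  obtain ⟨m, rfl⟩ := hpt
  have hun : IsCoprime u ((p : ℤ) ^ n) := IsCoprime.pow_right hu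
  obtain ⟨v, w, hvw⟩ := hun
  refine ⟨-m * v, ?_⟩
  rw [pow_mul_of_conj h, hS, ← ht, ← zpow_add, ← orderOf_dvd_iff_zpow_eq_one, ha]
  push_cast
  refine ⟨p * m * w, ?_⟩
  linear_combination (-(p : ℤ) * m) * hvw

end conj

section arith

theorem prime_dvd_sub_one {p : ℕ} [hp : Fact p.Prime] {r : ℤ} (h : (p : ℤ) ∣ r ^ p - 1) :
    (p : ℤ) ∣ r - 1 := by
  rw [← ZMod.intCast_zmod_eq_zero_iff_dvd] at h ⊢
  push_cast at h ⊢
  rwa [ZMod.pow_card] at h

theorem exists_geom_sum_odd {p : ℕ} [hp : Fact p.Prime] (hp2 : p ≠ 2) {r : ℤ}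
    (h : (p : ℤ) ∣ r - 1) : ∃ u : ℤ, ∑ i ∈ range p, r ^ i = p * u ∧ IsCoprime u (p : ℤ) := by
  obtain ⟨b, hb⟩ := h
  have hodd : Odd p := hp.out.odd_of_ne_two hp2
  have h1 := odd_sq_dvd_geom_sum₂_sub (R := ℤ) 1 b hodd
  simp only [one_pow, mul_one] at h1
  have hr : r = 1 + p * b := by linarith
  rw [← hr] at h1
  obtain ⟨c, hc⟩ := h1
  refine ⟨1 + p * c, by linear_combination hc, ?_⟩
  exact ⟨1, -c, by ring⟩

end arith

section main

variable {G : Type*} [Group G]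

theorem exists_conj_eq {a : G} (hA : (zpowers a).Normal) (x : G) : ∃ r : ℤ, x * a * x⁻¹ = a ^ r := by
  obtain ⟨r, hr⟩ := mem_zpowers_iff.1 (hA.conj_mem a (mem_zpowers a) x)
  exact ⟨r, hr.symm⟩

/-- The core computation. -/
theorem key {p : ℕ} [hp : Fact p.Prime] (hG : IsPGroup p G) (hU : UniqueP p G) {a : G}
    (hC : centralizer (zpowers a : Set G) ≤ zpowers a) {x : G} {r : ℤ}
    (hxa : x * a * x⁻¹ = a ^ r)
    (hx : x ∉ zpowers a) (hxp : x ^ p ∈ zpowers a) :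
    p = 2 ∧ ∃ m : ℕ, m ≠ 0 ∧ orderOf a = 2 ^ (m + 1) ∧ (2 : ℤ) ^ (m + 1) ∣ r + 1 ∧
      x * a * x⁻¹ = a⁻¹ ∧ x ^ 2 = a ^ 2 ^ m := by
  obtain ⟨n, hn⟩ := (IsPGroup.iff_orderOf.1 hG) a
  -- `a` is not trivial
  have hn0 : n ≠ 0 := by
    rintro rfl
    rw [pow_zero, orderOf_eq_one_iff] at hn
    apply hx
    apply hC
    subst hn
    simp [Subgroup.mem_centralizer_iff]
  -- `x` does not centralise `a`
  have hr : ¬ ((p : ℤ) ^ n ∣ r - 1) := by
    intro hd
    apply hx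
    apply hC
    have h1 : a ^ r = a ^ (1 : ℤ) := by
      rw [zpow_eq_zpow_iff_dvd, hn]; exact_mod_cast hd
    rw [zpow_one] at h1
    rw [h1] at hxa
    rw [Subgroup.mem_centralizer_iff]
    rintro y ⟨k, rfl⟩
    have h2 : Commute x a := by
      show x * a = a * x
      calc x * a = (x * a * x⁻¹) * x := by group
        _ = a * x := by rw [hxa]
    exact (h2.zpow_right k).symm
  have hnot : ∀ j : ℤ, (a ^ j * x) ^ p ≠ 1 := by
    intro j hj
    have h1 := mem_zpowers_of_pow_eq_one hU hn hn0 hj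
    apply hx
    have h2 : x = (a ^ j)⁻¹ * (a ^ j * x) := by group
    rw [h2]
    exact mul_mem (inv_mem (zpow_mem (mem_zpowers a) _)) h1
  have hd : (p : ℤ) ^ n ∣ r ^ p - 1 := by
    have := dvd_pow_sub_one hxa hxp
    rw [hn] at this
    exact_mod_cast this
  have hpr : (p : ℤ) ∣ r - 1 := prime_dvd_sub_one ((dvd_pow_self _ hn0).trans hd)
  by_cases hp2 : p = 2
  swap
  · exfalso
    obtain ⟨u, hu, hcop⟩ := exists_geom_sum_odd hp2 hpr
    obtain ⟨j, hj⟩ := exists_pow_eq_one hn hxa hr hxp hu hcop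
    exact hnot j hj
  subst hp2
  refine ⟨rfl, ?_⟩
  obtain ⟨m, rfl⟩ : ∃ m, n = m + 1 := ⟨n - 1, by omega⟩
  push_cast at hr hd hpr
  -- r = 3 mod 4
  have h34 : (4 : ℤ) ∣ r + 1 := by
    by_contra h4
    have h5 : (4 : ℤ) ∣ r - 1 := by omega
    obtain ⟨c, hc⟩ := h5
    obtain ⟨j, hj⟩ := exists_pow_eq_one (u := 1 + 2 * c) hn hxa (by exact_mod_cast hr) hxp
      (by rw [geom_sum_two]; push_cast; linarith) ⟨1, -c, by push_cast; ring⟩
    exact hnot j hj
  obtain ⟨c, hc⟩ := h34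
  -- m is nonzero
  have hm : m ≠ 0 := by
    rintro rfl
    apply hr
    simpa using hpr
  have hcop : IsCoprime ((2 : ℤ) ^ m) (2 * c - 1) := IsCoprime.pow_left ⟨c, -1, by ring⟩
  have hr1 : (2 : ℤ) ^ m ∣ r + 1 := by
    have h1 : r ^ 2 - 1 = 2 * ((2 * c - 1) * (r + 1)) := by
      have : r - 1 = 4 * c - 2 := by linarith
      linear_combination (r + 1) * this
    rw [h1, pow_succ'] at hd
    exact hcop.dvd_of_dvd_mul_left ((mul_dvd_mul_iff_left two_ne_zero).1 hd)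
  -- x ^ 2 = a ^ t with 2 ^ m ∣ t
  obtain ⟨t, ht⟩ := mem_zpowers_iff.1 hxp
  have h1 : (2 : ℤ) ^ (m + 1) ∣ t * (r - 1) := by
    have h2 : x * a ^ t = a ^ (r * t) * x := mul_zpow_of_conj hxa t
    have h3 : x * a ^ t = a ^ t * x := by rw [ht, ← pow_succ, ← pow_succ']
    have h4 : a ^ (r * t) = a ^ t := mul_right_cancel (h2.symm.trans h3)
    rw [zpow_eq_zpow_iff_dvd, hn] at h4
    have h5 : r * t - t = t * (r - 1) := by ring
    rw [h5] at h4
    exact_mod_cast h4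
  have ht2 : (2 : ℤ) ^ m ∣ t := by
    have h2 : t * (r - 1) = 2 * ((2 * c - 1) * t) := by
      have : r - 1 = 4 * c - 2 := by linarith
      rw [this]; ring
    rw [h2, pow_succ'] at h1
    exact hcop.dvd_of_dvd_mul_left ((mul_dvd_mul_iff_left two_ne_zero).1 h1)
  obtain ⟨t', rfl⟩ := ht2
  obtain ⟨e, he⟩ := hr1
  -- t' is odd
  have ht' : Odd t' := by
    by_contra ho
    rw [Int.not_odd_iff_even] at ho
    obtain ⟨s, hs⟩ := ho
    apply hnot 0
    rw [zpow_zero, one_mul, ← ht, ← orderOf_dvd_iff_zpow_eq_one, hn]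
    push_cast
    exact ⟨s, by rw [hs]; ring⟩
  have he' : Even e := by
    by_contra ho
    rw [Int.not_even_iff_odd] at ho
    obtain ⟨s, hs⟩ := ho.add_odd ht'
    apply hnot 1
    rw [pow_mul_of_conj hxa, geom_sum_two, ← ht, ← zpow_add, ← orderOf_dvd_iff_zpow_eq_one, hn]
    push_cast
    exact ⟨s, by rw [he]; linear_combination (2 : ℤ) ^ m * hs⟩
  obtain ⟨s, hs⟩ := he'
  have hdvd : (2 : ℤ) ^ (m + 1) ∣ r + 1 := ⟨s, by rw [he, hs]; ring⟩
  refine ⟨m, hm, hn, hdvd, ?_, ?_⟩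
  · rw [hxa, ← zpow_neg_one, zpow_eq_zpow_iff_dvd, hn]
    push_cast
    simpa using hdvd
  · rw [← ht, ← zpow_natCast a, zpow_eq_zpow_iff_dvd, hn]
    push_cast
    obtain ⟨k, hk⟩ := ht'
    exact ⟨k, by rw [hk]; ring⟩

/-- If `⟨a⟩` is normal, self-centralising and proper in the `p`-group `G` with `UniqueP`, then
`p = 2`, every element outside `⟨a⟩` inverts `a` and has square the involution of `⟨a⟩`. -/
theorem key_all {p : ℕ} [hp : Fact p.Prime] (hG : IsPGroup p G) (hU : UniqueP p G) {a : G}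
    (hA : (zpowers a).Normal) (hC : centralizer (zpowers a : Set G) ≤ zpowers a) {x : G}
    (hx : x ∉ zpowers a) :
    p = 2 ∧ ∃ m : ℕ, m ≠ 0 ∧ orderOf a = 2 ^ (m + 1) ∧
      x * a * x⁻¹ = a⁻¹ ∧ x ^ 2 = a ^ 2 ^ m := by
  classical
  have hex : ∃ k, x ^ p ^ k ∈ zpowers a := by
    obtain ⟨k, hk⟩ := hG x
    exact ⟨k, by rw [hk]; exact one_mem _⟩
  have hspec := Nat.find_spec hex
  have hmin := fun m => Nat.find_min hex (m := m)
  generalize hk : Nat.find hex = k at hspec hmin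
  rcases k with _ | k
  · simp only [pow_zero, pow_one] at hspec
    exact absurd hspec hx
  obtain ⟨r, hr⟩ := exists_conj_eq hA (x ^ p ^ k)
  obtain ⟨hp2, m, hm, ho, hdvd, hinv, hsq⟩ := key hG hU hC hr (hmin k (Nat.lt_succ_self k))
    (by rw [← pow_mul, ← pow_succ]; exact hspec)
  subst hp2
  refine ⟨rfl, m, hm, ho, ?_⟩
  rcases k with _ | k
  · simp only [pow_zero, pow_one] at hinv hsq
    exact ⟨hinv, hsq⟩
  exfalso
  -- y := x ^ 2 ^ k, y ^ 2 inverts a: impossible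
  obtain ⟨s, hs⟩ := exists_conj_eq hA (x ^ 2 ^ k)
  have h1 := pow_mul_zpow_of_conj hs 1 2
  rw [← pow_mul, ← pow_succ, zpow_one, mul_one] at h1
  have h2 : a ^ (s ^ 2) = a ^ r := by
    rw [← hr, h1, mul_inv_cancel_right]
  rw [zpow_eq_zpow_iff_dvd, ho] at h2
  push_cast at h2
  have h3 : (2 : ℤ) ^ (m + 1) ∣ s ^ 2 + 1 := by
    have : s ^ 2 + 1 = (s ^ 2 - r) + (r + 1) := by ring
    rw [this]; exact dvd_add h2 hdvd
  have h4 : (4 : ℤ) ∣ s ^ 2 + 1 := by
    refine dvd_trans ?_ h3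
    have : (4 : ℤ) = 2 ^ 2 := by norm_num
    rw [this]
    exact pow_dvd_pow _ (by omega)
  rcases Int.even_or_odd s with ⟨c, hc⟩ | ⟨c, hc⟩
  · rw [hc] at h4
    have : (c + c) ^ 2 + 1 = 4 * (c ^ 2) + 1 := by ring
    omega
  · rw [hc] at h4
    have : (2 * c + 1) ^ 2 + 1 = 4 * (c ^ 2 + c) + 2 := by ring
    omega

/-- A finite `p`-group with a unique subgroup of order `p` is cyclic, or `p = 2` and it has the
structure of a generalized quaternion group. -/
theorem cyclic_or_quaternion [Finite G] {p : ℕ} [hp : Fact p.Prime] (hG : IsPGroup p G)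
    (hU : UniqueP p G) :
    IsCyclic G ∨ (p = 2 ∧ ∃ m : ℕ, m ≠ 0 ∧ Nonempty (G ≃* QuaternionGroup (2 ^ m))) := by
  have hnil : Group.IsNilpotent G := hG.isNilpotent
  obtain ⟨A, hAn, hAc, hAC⟩ :=
    Cfsg.Agent.Lib.NormalAbelian.exists_normal_abelian_selfCentralizing (G := G)
  obtain ⟨a, rfl⟩ := exists_eq_zpowers_of_comm p hG hU A hAc
  by_cases htop : zpowers a = ⊤
  · left
    exact isCyclic_iff_exists_zpowers_eq_top.2 ⟨a, htop⟩
  right
  obtain ⟨x, hx⟩ : ∃ x, x ∉ zpowers a := by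
    by_contra hall
    push Not at hall
    exact htop ((Subgroup.eq_top_iff' _).2 hall)
  obtain ⟨hp2, m, hm, ho, hinv, hsq⟩ := key_all hG hU hAn hAC.le hx
  subst hp2
  refine ⟨rfl, m, hm, ?_⟩
  have ho' : orderOf a = 2 * 2 ^ m := by rw [ho, pow_succ']
  have ha : a ^ (2 * 2 ^ m) = 1 := by rw [← ho', pow_orderOf_eq_one]
  have hxx : x * x = a ^ 2 ^ m := by rw [← sq, hsq]
  refine ⟨(MulEquiv.ofBijective (Cfsg.Agent.Lib.DihedralRecog.quaternionHom a x ha hxx hinv)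
    ⟨Cfsg.Agent.Lib.DihedralRecog.quaternionHom_injective a x ha hxx hinv ho' hx, ?_⟩).symm⟩
  intro y
  by_cases hy : y ∈ zpowers a
  · obtain ⟨i, rfl⟩ := mem_zpowers_iff.1 hy
    refine ⟨.a (i : ZMod (2 * 2 ^ m)), ?_⟩
    rw [Cfsg.Agent.Lib.DihedralRecog.quaternionHom_a, Cfsg.Agent.Lib.DihedralRecog.zpw_intCast]
  · obtain ⟨-, -, -, -, hinvy, -⟩ := key_all hG hU hAn hAC.le hy
    have hmem : x⁻¹ * y ∈ zpowers a := by
      apply hAC.le
      rw [Subgroup.mem_centralizer_iff]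
      rintro z ⟨k, rfl⟩
      have h2 : Commute (x⁻¹ * y) a := by
        show x⁻¹ * y * a = a * (x⁻¹ * y)
        have e1 : y * a = a⁻¹ * y := by rw [← hinvy]; group
        have e2 : x⁻¹ * a⁻¹ = a * x⁻¹ := by
          have : a⁻¹ * x = x * a := by rw [← hinv]; group
          calc x⁻¹ * a⁻¹ = x⁻¹ * (a⁻¹ * x) * x⁻¹ := by group
            _ = x⁻¹ * (x * a) * x⁻¹ := by rw [this]
            _ = a * x⁻¹ := by group
        rw [mul_assoc, e1, ← mul_assoc, e2, mul_assoc]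
      exact (h2.zpow_right k).symm
    obtain ⟨i, hi⟩ := mem_zpowers_iff.1 hmem
    refine ⟨.xa (i : ZMod (2 * 2 ^ m)), ?_⟩
    rw [Cfsg.Agent.Lib.DihedralRecog.quaternionHom_xa, Cfsg.Agent.Lib.DihedralRecog.zpw_intCast,
      hi, mul_inv_cancel_left]

/-- For odd `p` a finite `p`-group with a unique subgroup of order `p` is cyclic. -/
theorem isCyclic_of_uniqueP [Finite G] {p : ℕ} [hp : Fact p.Prime] (hp2 : p ≠ 2)
    (hG : IsPGroup p G) (hU : UniqueP p G) : IsCyclic G := by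
  rcases cyclic_or_quaternion hG hU with h | ⟨h, -⟩
  · exact h
  · exact absurd h hp2

end main

end Cfsg.Agent.Solvable.UniqueOrderP
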