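import Mathlib

set_option autoImplicit false

open Pointwise

namespace Cfsg.Agent.Solvable.HallAux

open Subgroup MulAction MulOpposite

/-- A complement of an abelian normal subgroup `A` of coprime index is the stabilizer of its class. -/
theorem exists_stabilizer_eq {G : Type*} [Group G] [Finite G] (A : Subgroup G) [A.Normal]
    [IsMulCommutative A] (hA : Nat.Coprime (Nat.card A) A.index) (K : Subgroup G)
    (hK : IsComplement' K A) : ∃ α : A.QuotientDiff, stabilizer G α = K := by
  let S : A.LeftTransversal := ⟨(K : Set G), hK⟩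
  let α : A.QuotientDiff := Quotient.mk'' S
  refine ⟨α, ?_⟩
  have hle : K ≤ stabilizer G α := by
    intro k hk
    rw [mem_stabilizer_iff]
    change (Quotient.mk'' (op k⁻¹ • S) : A.QuotientDiff) = Quotient.mk'' S
    congr 1
    apply Subtype.ext
    change op k⁻¹ • (K : Set G) = (K : Set G)
    exact op_smul_coe_set (K.inv_mem hk)
  have hc := isComplement'_stabilizer_of_coprime (α := α) hA
  have h1 := hK.card_mul_card
  have h2 := hc.symm.card_mul_card
  symm
  apply Subgroup.eq_of_le_of_card_ge hle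
  have : Nat.card A ≠ 0 := Nat.card_pos.ne'
  have h3 : Nat.card (stabilizer G α) * Nat.card A = Nat.card K * Nat.card A := by
    rw [h1, h2]
  exact (Nat.eq_of_mul_eq_mul_right (Nat.pos_of_ne_zero this) h3).le

/-- Schur: complements of an abelian normal subgroup of coprime index are conjugate (by an element
of that subgroup). -/
theorem conj_abelian {G : Type*} [Group G] [Finite G] (A : Subgroup G) [A.Normal]
    [IsMulCommutative A] (hA : Nat.Coprime (Nat.card A) A.index) (H K : Subgroup G)
    (hH : IsComplement' H A) (hK : IsComplement' K A) :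
    ∃ a ∈ A, MulAut.conj a • H = K := by
  obtain ⟨α, rfl⟩ := exists_stabilizer_eq A hA H hH
  obtain ⟨β, rfl⟩ := exists_stabilizer_eq A hA K hK
  obtain ⟨h, rfl⟩ := exists_smul_eq hA α β
  refine ⟨h, h.2, ?_⟩
  change MulAut.conj (h : G) • stabilizer G α = stabilizer G ((h : G) • α)
  rw [stabilizer_smul_eq_stabilizer_map_conj]
  rfl

/-- If `N` is an abelian normal subgroup of order coprime to those of `H` and `K`, and
`K ≤ H ⊔ N`, then a conjugate of `K` by an element of `N` is contained in `H`. -/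
theorem conj_le_of_le_sup {G : Type*} [Group G] [Finite G] (N : Subgroup G) [N.Normal]
    [IsMulCommutative N] (H K : Subgroup G) (hH : (Nat.card N).Coprime (Nat.card H))
    (hK : (Nat.card N).Coprime (Nat.card K)) (hle : K ≤ H ⊔ N) :
    ∃ a ∈ N, MulAut.conj a • K ≤ H := by
  set Y : Subgroup G := K ⊔ N with hY
  have hNY : N ≤ Y := le_sup_right
  have hKY : K ≤ Y := le_sup_left
  have hYH : Y ≤ H ⊔ N := sup_le hle le_sup_right
  have : IsMulCommutative (N.subgroupOf Y) := by
    refine ⟨⟨fun a b => ?_⟩⟩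
    have hab := setLike_mul_comm (S := Subgroup G) (s := N) a.2 b.2
    exact Subtype.ext (Subtype.ext hab)
  have hcardN : Nat.card (N.subgroupOf Y) = Nat.card N :=
    Nat.card_congr (Subgroup.subgroupOfEquivOfLe hNY).toEquiv
  have hcardK : Nat.card (K.subgroupOf Y) = Nat.card K :=
    Nat.card_congr (Subgroup.subgroupOfEquivOfLe hKY).toEquiv
  have hindexN : (N.subgroupOf Y).index = N.relIndex K := by
    change N.relIndex (K ⊔ N) = N.relIndex K
    exact relIndex_sup_right K N
  have hA : Nat.Coprime (Nat.card (N.subgroupOf Y)) (N.subgroupOf Y).index := by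
    rw [hcardN, hindexN]
    exact hK.coprime_dvd_right (relIndex_dvd_card N K)
  have hKc : IsComplement' (K.subgroupOf Y) (N.subgroupOf Y) := by
    apply isComplement'_of_disjoint_and_mul_eq_univ
    · apply disjoint_of_coprime_natCard
      rw [hcardK, hcardN]
      exact hK.symm
    · rw [Set.eq_univ_iff_forall]
      rintro ⟨y, hy⟩
      obtain ⟨k, hk, n, hn, rfl⟩ := Subgroup.mem_sup_of_normal_right.mp hy
      exact ⟨⟨k, hKY hk⟩, hk, ⟨n, hNY hn⟩, hn, rfl⟩
  have hHc : IsComplement' (H.subgroupOf Y) (N.subgroupOf Y) := by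
    apply isComplement'_of_disjoint_and_mul_eq_univ
    · have hd : Disjoint H N := disjoint_of_coprime_natCard hH.symm
      rw [disjoint_def] at hd ⊢
      intro x hx hx'
      exact Subtype.ext (hd hx hx')
    · rw [Set.eq_univ_iff_forall]
      rintro ⟨y, hy⟩
      obtain ⟨h, hh, n, hn, rfl⟩ := Subgroup.mem_sup_of_normal_right.mp (hYH hy)
      have hhY : h ∈ Y := by
        have := Y.mul_mem hy (Y.inv_mem (hNY hn))
        simpa using this
      exact ⟨⟨h, hhY⟩, hh, ⟨n, hNY hn⟩, hn, rfl⟩
  obtain ⟨a, ha, hconj⟩ := conj_abelian (N.subgroupOf Y) hA _ _ hKc hHc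
  refine ⟨a, ha, ?_⟩
  rintro _ ⟨k, hk, rfl⟩
  have h1 : a * ⟨k, hKY hk⟩ * a⁻¹ ∈ H.subgroupOf Y := by
    rw [← hconj]
    exact ⟨⟨k, hKY hk⟩, hk, rfl⟩
  exact h1

/-- A nontrivial finite solvable group has a nontrivial normal abelian subgroup of prime
exponent. -/
theorem exists_normal_elementary {G : Type*} [Group G] [Finite G] [Group.IsSolvable G]
    [Nontrivial G] : ∃ (p : ℕ) (N : Subgroup G), p.Prime ∧ N.Normal ∧ N ≠ ⊥ ∧
      IsMulCommutative N ∧ (∀ x ∈ N, x ^ p = 1) := by
  classical
  have hsol : ∃ n, derivedSeries G n = ⊥ := (Group.isSolvable_def G).mp inferInstance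
  let n := Nat.find hsol
  have hn : derivedSeries G n = ⊥ := Nat.find_spec hsol
  have hn0 : n ≠ 0 := by
    intro h0
    rw [h0, derivedSeries_zero] at hn
    exact top_ne_bot hn
  obtain ⟨k, hk⟩ := Nat.exists_eq_succ_of_ne_zero hn0
  have hA : derivedSeries G k ≠ ⊥ := Nat.find_min hsol (by change k < n; omega)
  set A : Subgroup G := derivedSeries G k with hAdef
  have hcomm : ∀ x ∈ A, ∀ y ∈ A, x * y = y * x := by
    have h1 : ⁅A, A⁆ = ⊥ := by
      rw [← hn, hk]
      rfl
    intro x hx y hy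
    have := (Subgroup.commutator_le.mp h1.le) x hx y hy
    rw [Subgroup.mem_bot, commutatorElement_eq_one_iff_mul_comm] at this
    exact this
  have hAn : A.Normal := derivedSeries_normal G k
  have hone : Nat.card A ≠ 1 := fun h => hA (Subgroup.card_eq_one.mp h)
  obtain ⟨p, hp, hpd⟩ := Nat.exists_prime_and_dvd hone
  have : Fact p.Prime := ⟨hp⟩
  obtain ⟨⟨a, haA⟩, ha⟩ := exists_prime_orderOf_dvd_card' (G := A) p hpd
  let N : Subgroup G :=
    { carrier := {x | x ∈ A ∧ x ^ p = 1}
      one_mem' := ⟨A.one_mem, one_pow p⟩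
      mul_mem' := by
        rintro x y ⟨hx, hx'⟩ ⟨hy, hy'⟩
        refine ⟨A.mul_mem hx hy, ?_⟩
        rw [(show Commute x y from hcomm x hx y hy).mul_pow, hx', hy', one_mul]
      inv_mem' := by
        rintro x ⟨hx, hx'⟩
        exact ⟨A.inv_mem hx, by rw [inv_pow, hx', inv_one]⟩ }
  refine ⟨p, N, hp, ⟨?_⟩, ?_, ⟨⟨?_⟩⟩, fun x hx => hx.2⟩
  · rintro x ⟨hx, hx'⟩ g
    refine ⟨hAn.conj_mem x hx g, ?_⟩
    rw [conj_pow, hx', mul_one, mul_inv_cancel]
  · intro hN
    have haN : a ∈ N := ⟨haA, by
      have := pow_orderOf_eq_one (⟨a, haA⟩ : A)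
      rw [ha] at this
      exact congrArg Subtype.val this⟩
    rw [hN, Subgroup.mem_bot] at haN
    subst haN
    have h1 : orderOf (⟨1, haA⟩ : A) = 1 := orderOf_one
    rw [h1] at ha
    exact hp.one_lt.ne ha
  · intro x y
    exact Subtype.ext (hcomm x x.2.1 y y.2.1)

end Cfsg.Agent.Solvable.HallAux
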