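import Mathlib
import Cfsg.Agent.Solvable.HallAux

set_option autoImplicit false

open Pointwise

namespace Cfsg.Agent.Solvable.Hall

open Subgroup Cfsg.Agent.Solvable.HallAux

universe u

/-- The order of the preimage of a subgroup of a quotient. -/
theorem card_comap_mk {G : Type*} [Group G] (N : Subgroup G) [N.Normal]
    (H : Subgroup (G ⧸ N)) :
    Nat.card (H.comap (QuotientGroup.mk' N)) = Nat.card H * Nat.card N := by
  have hs := QuotientGroup.mk'_surjective N
  have hle : N ≤ H.comap (QuotientGroup.mk' N) := by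
    intro x hx
    rw [Subgroup.mem_comap, QuotientGroup.mk'_apply, (QuotientGroup.eq_one_iff x).mpr hx]
    exact H.one_mem
  have h1 : Nat.card ((H.comap (QuotientGroup.mk' N)).map (QuotientGroup.mk' N)) =
      N.relIndex (H.comap (QuotientGroup.mk' N)) := by
    rw [← Subgroup.relIndex_ker, QuotientGroup.ker_mk']
  rw [Subgroup.map_comap_eq_self_of_surjective hs] at h1
  rw [h1]
  have h2 := Subgroup.relIndex_mul_relIndex ⊥ N (H.comap (QuotientGroup.mk' N)) bot_le hle
  rw [Subgroup.relIndex_bot_left, Subgroup.relIndex_bot_left] at h2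
  rw [← h2, mul_comm]

/-- The order of the image of a subgroup in a quotient. -/
theorem card_map_mk {G : Type*} [Group G] (N : Subgroup G) [N.Normal]
    (H : Subgroup G) :
    Nat.card (H.map (QuotientGroup.mk' N)) * Nat.card (N ⊓ H : Subgroup G) = Nat.card H := by
  have h1 : Nat.card (H.map (QuotientGroup.mk' N)) = N.relIndex H := by
    rw [← Subgroup.relIndex_ker, QuotientGroup.ker_mk']
  have h2 := Subgroup.relIndex_mul_relIndex ⊥ (N ⊓ H) H bot_le inf_le_right
  rw [Subgroup.relIndex_bot_left, Subgroup.relIndex_bot_left, Subgroup.inf_relIndex_right] at h2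
  rw [h1, ← h2, mul_comm]

theorem hall_aux (k : ℕ) : ∀ (G : Type u) [Group G] [Finite G] [Group.IsSolvable G],
    Nat.card G = k → ∀ m n : ℕ, Nat.card G = m * n → m.Coprime n →
    (∃ H : Subgroup G, Nat.card H = m) ∧
    (∀ H K : Subgroup G, Nat.card H = m → (Nat.card K).Coprime n →
      ∃ g : G, MulAut.conj g • K ≤ H) := by
  induction k using Nat.strong_induction_on with
  | _ k ih =>
  intro G _ _ _ hk m n hG hmn
  rcases subsingleton_or_nontrivial G with hsub | hnon
  · have h1 : Nat.card G = 1 := Nat.card_of_subsingleton (1 : G)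
    have hm : m = 1 := Nat.eq_one_of_mul_eq_one_right (hG.symm.trans h1)
    refine ⟨⟨⊥, by rw [hm]; exact Subgroup.card_bot⟩, fun H K _ _ => ⟨1, ?_⟩⟩
    intro x _
    rw [Subsingleton.elim x 1]
    exact H.one_mem
  obtain ⟨p, N, hp, hN, hNbot, hNcomm, hNexp⟩ := exists_normal_elementary (G := G)
  have : Fact p.Prime := ⟨hp⟩
  have hpG : IsPGroup p N := by
    rintro ⟨x, hx⟩
    exact ⟨1, Subtype.ext (by simpa using hNexp x hx)⟩
  obtain ⟨a, hcardN⟩ := hpG.exists_card_eq
  have hNone : 1 < Nat.card N := N.one_lt_card_iff_ne_bot.mpr hNbot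
  have hcardQ : Nat.card (G ⧸ N) * Nat.card N = Nat.card G := by
    rw [← Subgroup.index_eq_card, Subgroup.index_mul_card]
  have hQlt : Nat.card (G ⧸ N) < k := by
    rw [← hk, ← hcardQ]
    exact lt_mul_of_one_lt_right Nat.card_pos hNone
  set π := QuotientGroup.mk' N with hπ
  have hsur : Function.Surjective π := QuotientGroup.mk'_surjective N
  have hker : π.ker = N := QuotientGroup.ker_mk' N
  have hlift : ∀ (H K : Subgroup G) (g : G), MulAut.conj (π g) • K.map π ≤ H.map π →
      MulAut.conj g • K ≤ H ⊔ N := by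
    intro H K g h
    have h1 : (MulAut.conj g • K).map π ≤ H.map π := by
      rintro _ ⟨_, ⟨x, hx, rfl⟩, rfl⟩
      refine h ⟨π x, ⟨x, hx, rfl⟩, ?_⟩
      simp
    rw [Subgroup.map_le_iff_le_comap, Subgroup.comap_map_eq, hker] at h1
    exact h1
  by_cases hpm : p ∣ m
  · -- the case where `N` has order dividing `m`
    have hpn : (Nat.card N).Coprime n := by
      rw [hcardN]
      exact Nat.Coprime.pow_left a (hmn.coprime_dvd_left hpm)
    have hNm : Nat.card N ∣ m := by
      apply hpn.dvd_of_dvd_mul_right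
      rw [← hG]
      exact Subgroup.card_subgroup_dvd_card N
    obtain ⟨m', rfl⟩ := hNm
    have hQ : Nat.card (G ⧸ N) = m' * n := by
      apply Nat.eq_of_mul_eq_mul_right (zero_lt_one.trans hNone)
      rw [hcardQ, hG]
      ring
    have hm'n : m'.Coprime n := hmn.coprime_dvd_left (dvd_mul_left _ _)
    obtain ⟨⟨H', hH'⟩, hD⟩ := ih _ hQlt (G ⧸ N) rfl m' n hQ hm'n
    refine ⟨⟨H'.comap π, ?_⟩, ?_⟩
    · rw [hπ, card_comap_mk, hH', mul_comm]
    · intro H K hH hK
      have hmapH : Nat.card (H.map π) ∣ m' := by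
        have h1 : (Nat.card (H.map π)).Coprime n :=
          (hH ▸ hmn).coprime_dvd_left (Subgroup.card_map_dvd H π)
        apply h1.dvd_of_dvd_mul_right
        rw [← hQ]
        exact Subgroup.card_subgroup_dvd_card _
      have hm'0 : 0 < m' := by
        rcases Nat.eq_zero_or_pos m' with h0 | h0
        · rw [h0, mul_zero, zero_mul] at hG
          exact absurd hG Nat.card_pos.ne'
        · exact h0
      have hNH : N ≤ H := by
        have h1 := card_map_mk N H
        rw [hH, ← hπ] at h1
        have h2 : Nat.card N ≤ Nat.card (N ⊓ H : Subgroup G) := by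
          have h3 : Nat.card (H.map π) ≤ m' := Nat.le_of_dvd hm'0 hmapH
          by_contra h4
          push Not at h4
          have h5 : Nat.card (H.map π) * Nat.card (N ⊓ H : Subgroup G) < m' * Nat.card N :=
            lt_of_le_of_lt (Nat.mul_le_mul_right _ h3) (Nat.mul_lt_mul_of_pos_left h4 hm'0)
          rw [h1, mul_comm] at h5
          exact lt_irrefl _ h5
        have h6 : (N ⊓ H : Subgroup G) = N := Subgroup.eq_of_le_of_card_ge inf_le_left h2
        rw [← h6]
        exact inf_le_right
      have hmapH' : Nat.card (H.map π) = m' := by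
        have h1 := card_map_mk N H
        rw [hH, ← hπ, inf_eq_left.mpr hNH, mul_comm] at h1
        exact Nat.eq_of_mul_eq_mul_left (zero_lt_one.trans hNone) h1
      obtain ⟨g', hg'⟩ := hD (H.map π) (K.map π) hmapH'
        (hK.coprime_dvd_left (Subgroup.card_map_dvd K π))
      obtain ⟨g, rfl⟩ := hsur g'
      refine ⟨g, ?_⟩
      have := hlift H K g hg'
      rwa [sup_eq_left.mpr hNH] at this
  · -- the case where `N` has order dividing `n`
    have hmp : (Nat.card N).Coprime m := by
      rw [hcardN]
      exact Nat.Coprime.pow_left a ((Nat.Prime.coprime_iff_not_dvd hp).mpr hpm)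
    have hNn : Nat.card N ∣ n := by
      apply hmp.dvd_of_dvd_mul_left
      rw [← hG]
      exact Subgroup.card_subgroup_dvd_card N
    obtain ⟨n', rfl⟩ := hNn
    have hQ : Nat.card (G ⧸ N) = m * n' := by
      apply Nat.eq_of_mul_eq_mul_right (zero_lt_one.trans hNone)
      rw [hcardQ, hG]
      ring
    have hmn' : m.Coprime n' := hmn.coprime_dvd_right (dvd_mul_left _ _)
    obtain ⟨⟨H', hH'⟩, hD⟩ := ih _ hQlt (G ⧸ N) rfl m n' hQ hmn'
    refine ⟨?_, ?_⟩
    · set X : Subgroup G := H'.comap π with hX
      have hXcard : Nat.card X = m * Nat.card N := by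
        rw [hX, hπ, card_comap_mk, hH']
      have hNX : N ≤ X := by
        rw [← hker, hX]
        exact Subgroup.ker_le_comap π H'
      have hNXc : Nat.card (N.subgroupOf X) = Nat.card N :=
        Nat.card_congr (Subgroup.subgroupOfEquivOfLe hNX).toEquiv
      have hNXi : (N.subgroupOf X).index = m := by
        have h1 := Subgroup.index_mul_card (N.subgroupOf X)
        rw [hNXc, hXcard] at h1
        exact Nat.eq_of_mul_eq_mul_right (zero_lt_one.trans hNone) h1
      obtain ⟨C, hC⟩ := Subgroup.exists_right_complement'_of_coprime (N := N.subgroupOf X)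
        (by rw [hNXc, hNXi]; exact hmp)
      refine ⟨C.map X.subtype, ?_⟩
      rw [Nat.card_congr (C.equivMapOfInjective X.subtype X.subtype_injective).symm.toEquiv,
        ← IsComplement'.index_eq_card (IsComplement'.symm hC), hNXi]
    · intro H K hH hK
      have hNH : (Nat.card N).Coprime (Nat.card H) := hH ▸ hmp
      have hNK : (Nat.card N).Coprime (Nat.card K) :=
        (hK.coprime_dvd_right (dvd_mul_right _ _)).symm
      have hmapH : Nat.card (H.map π) = m := by
        have h1 := card_map_mk N H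
        rw [(disjoint_of_coprime_natCard hNH).eq_bot, Subgroup.card_bot, mul_one, hH] at h1
        exact h1
      obtain ⟨g', hg'⟩ := hD (H.map π) (K.map π) hmapH
        ((hK.coprime_dvd_left (Subgroup.card_map_dvd K π)).coprime_dvd_right (dvd_mul_left _ _))
      obtain ⟨g, rfl⟩ := hsur g'
      have h2 := hlift H K g hg'
      have hcardK : Nat.card (MulAut.conj g • K : Subgroup G) = Nat.card K :=
        Nat.card_congr (Subgroup.equivSMul (MulAut.conj g) K).symm.toEquiv
      obtain ⟨a, -, ha⟩ := conj_le_of_le_sup N H (MulAut.conj g • K) hNH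
        (by rw [hcardK]; exact hNK) h2
      refine ⟨a * g, ?_⟩
      rwa [map_mul, mul_smul]

/-- Hall's theorem, existence. -/
theorem hall_exists {G : Type*} [Group G] [Finite G] [Group.IsSolvable G] (m n : ℕ)
    (hG : Nat.card G = m * n) (hmn : m.Coprime n) : ∃ H : Subgroup G, Nat.card H = m :=
  (hall_aux _ G rfl m n hG hmn).1

/-- Hall's theorem: each subgroup of order coprime to `n` is conjugate into a given
subgroup of order `m`. -/
theorem hall_conj_le {G : Type*} [Group G] [Finite G] [Group.IsSolvable G] (m n : ℕ)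
    (hG : Nat.card G = m * n) (hmn : m.Coprime n) (H K : Subgroup G)
    (hH : Nat.card H = m) (hK : (Nat.card K).Coprime n) :
    ∃ g : G, MulAut.conj g • K ≤ H :=
  (hall_aux _ G rfl m n hG hmn).2 H K hH hK

/-- Hall's theorem, conjugacy. -/
theorem hall_conj {G : Type*} [Group G] [Finite G] [Group.IsSolvable G] (m n : ℕ)
    (hG : Nat.card G = m * n) (hmn : m.Coprime n) (H K : Subgroup G)
    (hH : Nat.card H = m) (hK : Nat.card K = m) : ∃ g : G, MulAut.conj g • H = K := by
  obtain ⟨g, hg⟩ := hall_conj_le m n hG hmn K H hK (hH ▸ hmn)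
  refine ⟨g, Subgroup.eq_of_le_of_card_ge hg ?_⟩
  rw [hK, ← hH]
  exact (Nat.card_congr (Subgroup.equivSMul (MulAut.conj g) H).toEquiv).le

/-- Hall's theorem, dominance. -/
theorem hall_dominance {G : Type*} [Group G] [Finite G] [Group.IsSolvable G] (m n : ℕ)
    (hG : Nat.card G = m * n) (hmn : m.Coprime n) (K : Subgroup G)
    (hK : (Nat.card K).Coprime n) :
    ∃ H : Subgroup G, Nat.card H = m ∧ K ≤ H := by
  obtain ⟨H, hH⟩ := hall_exists m n hG hmn
  obtain ⟨g, hg⟩ := hall_conj_le m n hG hmn H K hH hK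
  refine ⟨(MulAut.conj g)⁻¹ • H, ?_, ?_⟩
  · rw [← hH]
    exact Nat.card_congr (Subgroup.equivSMul (MulAut.conj g)⁻¹ H).symm.toEquiv
  · rwa [Subgroup.subset_pointwise_smul_iff, inv_inv]

end Cfsg.Agent.Solvable.Hall
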