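import Mathlib

/-!
Fixed-point-free actions on (abelian) groups.
-/

set_option autoImplicit false
set_option linter.style.haveILetI false

namespace Cfsg.Agent.Solvable.FixedPointFree

/-- A finite abelian group with a fixed-point-free action on a nonzero abelian group is cyclic. -/
theorem isCyclic_of_comm {A M : Type*} [CommGroup A] [Finite A] [AddCommGroup M] [Nontrivial M]
    (φ : A →* AddMonoid.End M) (h : ∀ a : A, a ≠ 1 → ∀ m : M, φ a m = m → m = 0) : IsCyclic A := by
  classical
  let R := MonoidAlgebra ℤ A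
  let F : R →ₐ[ℤ] AddMonoid.End M := MonoidAlgebra.lift ℤ (AddMonoid.End M) A φ
  letI : Module R M := Module.compHom M F.toRingHom
  haveI : IsNoetherianRing R := by
    haveI : Module.Finite ℤ R :=
      Module.Finite.of_basis (MonoidAlgebra.basis A ℤ)
    exact IsNoetherianRing.of_finite ℤ R
  have hsmul : ∀ (a : A) (m : M), (MonoidAlgebra.of ℤ A a : R) • m = φ a m := by
    intro a m
    change F (MonoidAlgebra.of ℤ A a) m = φ a m
    rw [MonoidAlgebra.lift_of]
  obtain ⟨x, hx⟩ := exists_ne (0 : M)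
  obtain ⟨P, hP, -⟩ := exists_le_isAssociatedPrime_of_isNoetherianRing R x hx
  obtain ⟨hPp, y, hy⟩ := (isAssociatedPrime_iff).1 hP
  haveI := hPp
  let f : A →* R ⧸ P := (Ideal.Quotient.mk P : R →* R ⧸ P).comp (MonoidAlgebra.of ℤ A)
  refine isCyclic_of_injective_ringHom (f := f) ?_
  rw [injective_iff_map_eq_one]
  intro a ha
  by_contra hne
  have h1 : (Ideal.Quotient.mk P (MonoidAlgebra.of ℤ A a) : R ⧸ P) = Ideal.Quotient.mk P 1 := by
    rw [map_one]; exact ha
  rw [Ideal.Quotient.eq, hy, Submodule.mem_colon_singleton, Submodule.mem_bot, sub_smul, one_smul,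
    hsmul, sub_eq_zero] at h1
  have hy0 := h a hne y h1
  apply hPp.ne_top
  rw [hy, hy0]
  simp

/-- Reindexing: a product over a nontrivial group of a fixed-point-free action is trivial. -/
theorem prod_eq_one {B V : Type*} [Group B] [Fintype B] [CommGroup V] (φ : B →* MulAut V)
    {b : B} (hb : ∀ v : V, φ b v = v → v = 1) (v : V) : ∏ x : B, φ x v = 1 := by
  apply hb
  rw [map_prod]
  refine Fintype.prod_equiv (Equiv.mulLeft b) _ _ ?_
  intro x
  simp [map_mul]

/-- Products over the powers of an element `c ≠ 1` with `c ^ p = 1`. -/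
theorem prod_range_eq_one {A V : Type*} [Group A] [CommGroup V] (φ : A →* MulAut V)
    {c : A} (hc : ∀ v : V, φ c v = v → v = 1) {n : ℕ} (hn : c ^ n = 1) (v : V) :
    ∏ i ∈ Finset.range n, φ (c ^ i) v = 1 := by
  apply hc
  rw [map_prod]
  have h1 : ∀ i, φ c (φ (c ^ i) v) = φ (c ^ (i + 1)) v := by
    intro i
    rw [pow_succ', map_mul]; rfl
  simp_rw [h1]
  have h2 := Finset.prod_range_succ (fun i => φ (c ^ i) v) n
  have h3 := Finset.prod_range_succ' (fun i => φ (c ^ i) v) n
  rw [h2] at h3
  simp only [hn, pow_zero] at h3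
  exact (mul_right_cancel h3).symm

/-- Key lemma: if `Q` is a normal finite nontrivial subgroup of `A` and `b` is such that
all elements of `bQ` are nontrivial with `p`-th power one, then a fixed-point-free action of `A` on an abelian group `V`
has `v ^ |Q| = 1` for all `v`. -/
theorem pow_card_eq_one {A V : Type*} [Group A] [CommGroup V] (φ : A →* MulAut V)
    (h : ∀ a : A, a ≠ 1 → ∀ v : V, φ a v = v → v = 1)
    (Q : Subgroup A) [Finite Q] (hQn : Q.Normal) (hQ : Q ≠ ⊥) {p : ℕ} (hp : p.Prime) (b : A)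
    (hbp : ∀ x ∈ Q, (b * x) ^ p = 1) (hb1 : b ∉ Q) (v : V) : v ^ Nat.card Q = 1 := by
  classical
  cases nonempty_fintype Q
  have hbQ : ∀ x : Q, b * (x : A) ≠ 1 := by
    intro x hx
    apply hb1
    have : b = (x : A)⁻¹ := eq_inv_of_mul_eq_one_left hx
    rw [this]; exact Q.inv_mem x.2
  have hNQ : ∀ w : V, ∏ x : Q, φ (x : A) w = 1 := by
    intro w
    obtain ⟨c, hc⟩ := (Subgroup.ne_bot_iff_exists_ne_one).1 hQ
    have := prod_eq_one (B := Q) (φ.comp Q.subtype) (b := c)
      (h (c : A) (by simpa using hc)) w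
    simpa using this
  -- double product
  have hD : ∏ x : Q, ∏ i ∈ Finset.range p, φ ((b * (x : A)) ^ i) v = 1 := by
    refine Finset.prod_eq_one fun x _ => ?_
    exact prod_range_eq_one φ (h _ (hbQ x)) (hbp x x.2) v
  rw [Finset.prod_comm] at hD
  have hi : ∀ i ∈ Finset.range p, i ≠ 0 → ∏ x : Q, φ ((b * (x : A)) ^ i) v = 1 := by
    intro i hi hi0
    have hip : Nat.Coprime i p :=
      Nat.Coprime.symm ((Nat.Prime.coprime_iff_not_dvd hp).2
        (Nat.not_dvd_of_pos_of_lt (Nat.pos_of_ne_zero hi0) (Finset.mem_range.1 hi)))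
    obtain ⟨j, -, hj⟩ := Nat.exists_mul_mod_eq_one_of_coprime hip hp.one_lt
    -- the map x ↦ b^{-i} (b x)^i on Q
    have hmem : ∀ x : Q, (b ^ i)⁻¹ * (b * (x : A)) ^ i ∈ Q := by
      intro x
      rw [← QuotientGroup.eq]
      have hx : ((x : A) : A ⧸ Q) = 1 := (QuotientGroup.eq_one_iff _).2 x.2
      rw [QuotientGroup.mk_pow, QuotientGroup.mk_pow, QuotientGroup.mk_mul, hx, mul_one]
    let g : Q → Q := fun x => ⟨_, hmem x⟩
    have hginj : Function.Injective g := by
      intro x y hxy
      have h1 : (b ^ i)⁻¹ * (b * (x : A)) ^ i = (b ^ i)⁻¹ * (b * (y : A)) ^ i := congrArg Subtype.val hxy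
      have h2 := mul_left_cancel h1
      have h3 : ∀ z : Q, ((b * (z : A)) ^ i) ^ j = b * z := by
        intro z
        rw [← pow_mul, ← Nat.div_add_mod (i * j) p, hj, pow_add, pow_mul, hbp z z.2, one_pow, one_mul,
          pow_one]
      have h4 : b * (x : A) = b * y := by rw [← h3 x, ← h3 y, h2]
      exact Subtype.ext (mul_left_cancel h4)
    have hgbij : Function.Bijective g := Finite.injective_iff_bijective.1 hginj
    have h5 : ∏ x : Q, φ ((b * (x : A)) ^ i) v = ∏ x : Q, φ (b ^ i) (φ ((g x : Q) : A) v) := by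
      refine Finset.prod_congr rfl fun x _ => ?_
      rw [← MulAut.mul_apply, ← map_mul]
      congr 2
      simp [g]
    rw [h5, ← map_prod, Function.Bijective.prod_comp hgbij (fun x : Q => φ (x : A) v), hNQ, map_one]
  rw [Finset.prod_eq_single_of_mem 0 (Finset.mem_range.2 hp.pos) hi] at hD
  simpa using hD

/-- If `a ^ p = 1` (`p` prime) and `a` acts fixed-point-freely on a finite group `V`, then `p ∤ |V|`. -/
theorem not_dvd_card {A V : Type*} [Group A] [Group V] [Finite V] (φ : A →* MulAut V)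
    {a : A} (ha : ∀ v : V, φ a v = v → v = 1) {p : ℕ} (hp : p.Prime) (hap : a ^ p = 1) :
    ¬ p ∣ Nat.card V := by
  intro hdvd
  haveI : Fact p.Prime := ⟨hp⟩
  letI : MulAction (Subgroup.zpowers a) V :=
    MulAction.compHom V (φ.comp (Subgroup.zpowers a).subtype)
  have hsmul : ∀ (b : Subgroup.zpowers a) (v : V), b • v = φ (b : A) v := fun b v => rfl
  have hB : IsPGroup p (Subgroup.zpowers a) := by
    apply IsPGroup.of_card_dvd_pow (n := 1)
    rw [Nat.card_zpowers, pow_one]
    exact orderOf_dvd_of_pow_eq_one hap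
  obtain ⟨v, hv, hv1⟩ := hB.exists_fixed_point_of_prime_dvd_card_of_fixed_point V hdvd
    (a := (1 : V)) (fun b => by rw [hsmul, map_one])
  exact hv1 (ha v (by simpa [hsmul] using hv ⟨a, Subgroup.mem_zpowers a⟩)).symm

/-- A fixed-point-free action of a finite group on a finite group is coprime. -/
theorem coprime_card {A V : Type*} [Group A] [Finite A] [Group V] [Finite V] (φ : A →* MulAut V)
    (h : ∀ a : A, a ≠ 1 → ∀ v : V, φ a v = v → v = 1) :
    Nat.Coprime (Nat.card A) (Nat.card V) := by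
  refine Nat.coprime_of_dvd fun p hp hpA => ?_
  haveI : Fact p.Prime := ⟨hp⟩
  obtain ⟨a, ha⟩ := exists_prime_orderOf_dvd_card' p hpA
  refine not_dvd_card φ (h a ?_) hp (by rw [← ha]; exact pow_orderOf_eq_one a)
  rintro rfl
  rw [orderOf_one] at ha
  exact hp.one_lt.ne ha

/-- A group of order `p * q` with `p < q` primes acting fixed-point-freely on a nontrivial finite abelian group
is cyclic. -/
theorem isCyclic_of_card_lt {A V : Type*} [Group A] [CommGroup V] [Finite V] [Nontrivial V]
    (φ : A →* MulAut V) (h : ∀ a : A, a ≠ 1 → ∀ v : V, φ a v = v → v = 1)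
    {p q : ℕ} (hp : p.Prime) (hq : q.Prime) (hpq : p < q) (hA : Nat.card A = p * q) :
    IsCyclic A := by
  haveI : Fact p.Prime := ⟨hp⟩
  haveI : Fact q.Prime := ⟨hq⟩
  haveI : Finite A := Nat.finite_of_card_ne_zero (by rw [hA]; exact (Nat.mul_pos hp.pos hq.pos).ne')
  have hcop : Nat.Coprime p q := (Nat.coprime_primes hp hq).2 hpq.ne
  by_contra hnc
  obtain ⟨c, hc⟩ := exists_prime_orderOf_dvd_card' (G := A) q (by rw [hA]; exact dvd_mul_left _ _)
  obtain ⟨b, hb⟩ := exists_prime_orderOf_dvd_card' (G := A) p (by rw [hA]; exact dvd_mul_right _ _)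
  set Q := Subgroup.zpowers c with hQdef
  have hQcard : Nat.card Q = q := by rw [hQdef, Nat.card_zpowers, hc]
  have hQidx : Q.index = p := by
    have := Q.card_mul_index
    rw [hQcard, hA, mul_comm] at this
    exact Nat.eq_of_mul_eq_mul_right hq.pos this
  have hmin : (Nat.card A).minFac = p := by
    rw [hA]
    refine le_antisymm (Nat.minFac_le_of_dvd hp.two_le (dvd_mul_right _ _)) ?_
    have h1 := Nat.minFac_prime (n := p * q) (fun h0 => hp.one_lt.ne' (Nat.eq_one_of_mul_eq_one_right h0))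
    have h2 := Nat.minFac_dvd (p * q)
    rcases (Nat.Prime.dvd_mul h1).1 h2 with h3 | h3
    · exact ((Nat.prime_dvd_prime_iff_eq h1 hp).1 h3).ge
    · rw [(Nat.prime_dvd_prime_iff_eq h1 hq).1 h3]; exact hpq.le
  have hQn : Q.Normal := Subgroup.normal_of_index_eq_minFac_card (by rw [hmin, hQidx])
  have hQbot : Q ≠ ⊥ := by
    intro h0
    rw [h0, Subgroup.card_bot] at hQcard
    exact hq.one_lt.ne hQcard
  have hbQ : b ∉ Q := by
    intro hbm
    have h1 : orderOf b ∣ Nat.card Q := by
      have := orderOf_dvd_natCard (⟨b, hbm⟩ : Q)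
      rwa [Subgroup.orderOf_mk] at this
    rw [hb, hQcard, Nat.prime_dvd_prime_iff_eq hp hq] at h1
    exact hpq.ne h1
  have hbp : ∀ x ∈ Q, (b * x) ^ p = 1 := by
    intro x hx
    have h1 : orderOf (b * x) ∣ p * q := by rw [← hA]; exact orderOf_dvd_natCard _
    by_cases hqd : q ∣ orderOf (b * x)
    · exfalso
      obtain ⟨m, hm⟩ := hqd
      rw [hm, mul_comm] at h1
      have h2 : m ∣ p := Nat.dvd_of_mul_dvd_mul_right hq.pos h1
      rcases (Nat.dvd_prime hp).1 h2 with h3 | h3
      · -- order is q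
        rw [h3, mul_one] at hm
        have h4 : ((b * x : A) : A ⧸ Q) ^ q = 1 := by
          rw [← QuotientGroup.mk_pow, ← hm, pow_orderOf_eq_one, QuotientGroup.mk_one]
        have h5 : ((b * x : A) : A ⧸ Q) = (b : A ⧸ Q) := by
          rw [QuotientGroup.mk_mul, (QuotientGroup.eq_one_iff x).2 hx, mul_one]
        rw [h5] at h4
        have h6 : (b : A ⧸ Q) ^ p = 1 := by
          rw [← QuotientGroup.mk_pow, ← hb, pow_orderOf_eq_one, QuotientGroup.mk_one]
        have h7 : orderOf (b : A ⧸ Q) ∣ Nat.gcd p q :=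
          Nat.dvd_gcd (orderOf_dvd_of_pow_eq_one h6) (orderOf_dvd_of_pow_eq_one h4)
        rw [hcop, Nat.dvd_one, orderOf_eq_one_iff, QuotientGroup.eq_one_iff] at h7
        exact hbQ h7
      · rw [h3] at hm
        exact hnc (isCyclic_of_orderOf_eq_card (b * x) (by rw [hm, hA, mul_comm]))
    · have h2 : Nat.Coprime (orderOf (b * x)) q := (Nat.Prime.coprime_iff_not_dvd hq).2 hqd |>.symm
      exact orderOf_dvd_iff_pow_eq_one.1 (Nat.Coprime.dvd_of_dvd_mul_right h2 h1)
  have hv := pow_card_eq_one φ h Q hQn hQbot hp b hbp hbQ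
  rw [hQcard] at hv
  -- V is a q-group, contradiction
  refine not_dvd_card φ (a := c) (h c ?_) hq (by rw [← hc]; exact pow_orderOf_eq_one c) ?_
  · rintro rfl
    rw [orderOf_one] at hc
    exact hq.one_lt.ne hc
  · obtain ⟨v, hv1⟩ := exists_ne (1 : V)
    have := orderOf_eq_prime (hv v) hv1
    rw [← this]
    exact orderOf_dvd_natCard v

/-- An abelian group acting fixed-point-freely on a nontrivial abelian group is cyclic
(multiplicative version). -/
theorem isCyclic_of_comm' {A V : Type*} [Group A] [Finite A] [CommGroup V] [Nontrivial V]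
    (hA : ∀ a b : A, a * b = b * a)
    (φ : A →* MulAut V) (h : ∀ a : A, a ≠ 1 → ∀ v : V, φ a v = v → v = 1) :
    IsCyclic A := by
  letI : CommGroup A := { (inferInstance : Group A) with mul_comm := hA }
  let ψ : A →* AddMonoid.End (Additive V) :=
    { toFun := fun a => MonoidHom.toAdditive (φ a).toMonoidHom
      map_one' := by
        ext v
        rw [map_one]
        rfl
      map_mul' := fun a b => by
        ext v
        rw [map_mul]
        rfl }
  exact isCyclic_of_comm ψ fun a ha m hm => h a ha m.toMul hm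

/-- A group of order a product of two primes acting fixed-point-freely on a nontrivial finite abelian group
is cyclic. -/
theorem isCyclic_of_card_mul {A V : Type*} [Group A] [CommGroup V] [Finite V] [Nontrivial V]
    (φ : A →* MulAut V) (h : ∀ a : A, a ≠ 1 → ∀ v : V, φ a v = v → v = 1)
    {p q : ℕ} (hp : p.Prime) (hq : q.Prime) (hA : Nat.card A = p * q) :
    IsCyclic A := by
  rcases lt_trichotomy p q with hpq | rfl | hpq
  · exact isCyclic_of_card_lt φ h hp hq hpq hA
  · haveI : Fact p.Prime := ⟨hp⟩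
    haveI : Finite A := Nat.finite_of_card_ne_zero (by rw [hA]; exact (Nat.mul_pos hp.pos hp.pos).ne')
    have hc : IsMulCommutative A :=
      IsPGroup.isMulCommutative_of_card_eq_prime_sq (p := p) (by rw [hA, sq])
    exact isCyclic_of_comm' (isMulCommutative_iff.1 hc) φ h
  · exact isCyclic_of_card_lt φ h hq hp hpq (by rw [hA, mul_comm])

/-- The conjugation action of `A` on `V` when `A` normalises `V`. -/
def conjHom {G : Type*} [Group G] (A V : Subgroup G) (hAV : A ≤ Subgroup.normalizer (V : Set G)) :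
    A →* MulAut V :=
  (Subgroup.normalizerMonoidHom V).comp (Subgroup.inclusion hAV)

theorem conjHom_apply {G : Type*} [Group G] (A V : Subgroup G)
    (hAV : A ≤ Subgroup.normalizer (V : Set G)) (a : A) (v : V) :
    ((conjHom A V hAV a v : V) : G) = a * v * (a : G)⁻¹ := rfl

theorem conjHom_fpf {G : Type*} [Group G] (A V : Subgroup G)
    (hAV : A ≤ Subgroup.normalizer (V : Set G))
    (hfpf : ∀ a ∈ A, a ≠ 1 → V ⊓ Subgroup.centralizer {a} = ⊥) :
    ∀ a : A, a ≠ 1 → ∀ v : V, conjHom A V hAV a v = v → v = 1 := by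
  intro a ha v hv
  have h1 : (a : G) * v * (a : G)⁻¹ = v := by rw [← conjHom_apply A V hAV, hv]
  have h2 : (v : G) ∈ V ⊓ Subgroup.centralizer {(a : G)} := by
    refine Subgroup.mem_inf.2 ⟨v.2, ?_⟩
    rw [Subgroup.mem_centralizer_singleton_iff]
    rw [mul_inv_eq_iff_eq_mul] at h1
    first | exact h1 | exact h1.symm
  rw [hfpf a a.2 (by simpa using ha), Subgroup.mem_bot] at h2
  exact Subtype.ext h2

end Cfsg.Agent.Solvable.FixedPointFree
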