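import Mathlib.GroupTheory.Nilpotent
import Mathlib.GroupTheory.Solvable
import Mathlib.GroupTheory.Sylow
import Cfsg.Prelude.Def_Solvable

set_option autoImplicit false

namespace Cfsg.Agent.Solvable.CentralizerCore

open Subgroup

/-- The `n`-th term of the derived series of a subgroup, as a subgroup of the whole group. -/
def derTerm {G : Type*} [Group G] (C : Subgroup G) : ℕ → Subgroup G
  | 0 => C
  | n + 1 => ⁅derTerm C n, derTerm C n⁆

theorem derTerm_zero {G : Type*} [Group G] (C : Subgroup G) : derTerm C 0 = C := rfl

theorem derTerm_succ {G : Type*} [Group G] (C : Subgroup G) (n : ℕ) :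
    derTerm C (n + 1) = ⁅derTerm C n, derTerm C n⁆ := rfl

theorem derTerm_normal {G : Type*} [Group G] (C : Subgroup G) [hC : C.Normal] (n : ℕ) :
    (derTerm C n).Normal := by
  induction n with
  | zero => exact hC
  | succ n ih => rw [derTerm_succ]; infer_instance

theorem derTerm_le {G : Type*} [Group G] (C : Subgroup G) (n : ℕ) : derTerm C n ≤ C := by
  induction n with
  | zero => exact le_rfl
  | succ n ih =>
    rw [derTerm_succ, Subgroup.commutator_le]
    intro a ha b hb
    exact C.mul_mem (C.mul_mem (C.mul_mem (ih ha) (ih hb)) (C.inv_mem (ih ha)))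
      (C.inv_mem (ih hb))

theorem derTerm_le_derivedSeries {G : Type*} [Group G] (C : Subgroup G) (n : ℕ) :
    derTerm C n ≤ derivedSeries G n := by
  induction n with
  | zero => simp [derivedSeries_zero]
  | succ n ih =>
    rw [derTerm_succ, derivedSeries_succ]
    exact Subgroup.commutator_mono ih ih

/-- In a solvable group, if a normal subgroup `C` centralises `P` and is not contained in `P`, then
`C` contains a subgroup `A`, normal in `G` and nilpotent, that is not contained in `P`. -/
theorem exists_normal_nilpotent_not_le {G : Type*} [Group G] [Group.IsSolvable G]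
    (C P : Subgroup G) [C.Normal] (hC : C ≤ Subgroup.centralizer (P : Set G)) (h : ¬ C ≤ P) :
    ∃ A : Subgroup G, A.Normal ∧ A ≤ C ∧ ¬ A ≤ P ∧ Group.IsNilpotent A := by
  classical
  obtain ⟨N, hN⟩ := Group.IsSolvable.solvable (G := G)
  have hex : ∃ n, derTerm C n ≤ P :=
    ⟨N, (derTerm_le_derivedSeries C N).trans (by rw [hN]; exact bot_le)⟩
  have hspec := Nat.find_spec hex
  have hmin := fun m => Nat.find_min hex (m := m)
  generalize hn : Nat.find hex = n at hspec hmin
  rcases n with _ | n
  · exact absurd hspec h
  · refine ⟨derTerm C n, derTerm_normal C n, derTerm_le C n, hmin n (Nat.lt_succ_self n), ?_⟩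
    rw [Subgroup.isNilpotent_iff_lowerCentralSeries]
    refine ⟨2, ?_⟩
    rw [Subgroup.lowerCentralSeries_succ, Subgroup.lowerCentralSeries_succ,
      Subgroup.lowerCentralSeries_zero, ← derTerm_succ, Subgroup.commutator_eq_bot_iff_le_centralizer]
    -- derTerm (n+1) ≤ P and derTerm n ≤ C ≤ centralizer P
    intro x hx
    rw [Subgroup.mem_centralizer_iff]
    intro y hy
    have h1 : y ∈ Subgroup.centralizer (P : Set G) := hC (derTerm_le C n hy)
    exact (Subgroup.mem_centralizer_iff.1 h1 x (hspec hx)).symm

/-- A normal nilpotent subgroup of a finite group whose order is not a power of `p` contributes a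
nontrivial normal `p'`-subgroup: if `O_{p'}(G) = 1` then it is a `p`-group. -/
theorem isPGroup_of_normal_nilpotent {G : Type*} [Group G] [Finite G] (p : ℕ) [hp : Fact p.Prime]
    (h : ∀ N : Subgroup G, N.Normal → (Nat.card N).Coprime p → N = ⊥)
    (A : Subgroup G) [hA : A.Normal] [Group.IsNilpotent A] : IsPGroup p A := by
  rw [isPGroup_iff_primeFactors_card_subset hp.out.ne_zero]
  intro q hq
  rw [hp.out.primeFactors, Finset.mem_singleton]
  by_contra hqp
  have hq' : q.Prime := Nat.prime_of_mem_primeFactors hq
  haveI : Fact q.Prime := ⟨hq'⟩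
  let Q : Sylow q A := default
  haveI : (Q : Subgroup A).Normal := inferInstance
  haveI : (Q : Subgroup A).Characteristic := Sylow.characteristic_of_normal Q inferInstance
  have hnorm : ((Q : Subgroup A).map A.subtype).Normal := inferInstance
  have hcard : Nat.card ((Q : Subgroup A).map A.subtype) = Nat.card (Q : Subgroup A) :=
    Nat.card_congr (Subgroup.equivMapOfInjective _ _ A.subtype_injective).symm.toEquiv
  obtain ⟨k, hk⟩ := Q.isPGroup'.exists_card_eq
  have hcop : (Nat.card ((Q : Subgroup A).map A.subtype)).Coprime p := by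
    rw [hcard, hk]
    exact Nat.Coprime.pow_left k ((Nat.coprime_primes hq' hp.out).2 hqp)
  have hbot := h _ hnorm hcop
  rw [Subgroup.map_eq_bot_iff_of_injective _ A.subtype_injective] at hbot
  exact Sylow.ne_bot_of_dvd_card Q (Nat.dvd_of_mem_primeFactors hq) hbot

end Cfsg.Agent.Solvable.CentralizerCore
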