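import Mathlib
import Cfsg.Agent.Solvable.FixedPointFree

/-!
Fixed-point-free actions of `p`-groups on arbitrary finite groups.
-/

set_option autoImplicit false
set_option linter.style.haveILetI false

namespace Cfsg.Agent.Solvable.FpfPGroup

open Cfsg.Agent.Solvable.FixedPointFree
open scoped Pointwise

/-- A `p`-group `E` normalising a `p'`-group `K` normalises a Sylow `r`-subgroup of `K` (as a subgroup of `G`),
and its centre. -/
theorem exists_abelian_invariant {G : Type*} [Group G] [Finite G] (E K : Subgroup G) (hK : K ≠ ⊥)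
    (hEK : E ≤ Subgroup.normalizer (K : Set G)) {p : ℕ} (hp : p.Prime) (hE : IsPGroup p E)
    (hpK : ¬ p ∣ Nat.card K) :
    ∃ W : Subgroup G, W ≤ K ∧ W ≠ ⊥ ∧ IsMulCommutative W ∧ E ≤ Subgroup.normalizer (W : Set G) := by
  haveI : Fact p.Prime := ⟨hp⟩
  have hK1 : Nat.card K ≠ 1 := by
    intro h
    exact hK (Subgroup.card_eq_one.1 h)
  obtain ⟨r, hr, hrK⟩ := Nat.exists_prime_and_dvd hK1
  haveI : Fact r.Prime := ⟨hr⟩
  letI : MulDistribMulAction E K := MulDistribMulAction.compHom K (conjHom E K hEK)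
  have hsmul : ∀ (e : E) (k : K), ((e • k : K) : G) = e * k * (e : G)⁻¹ := fun e k => rfl
  have hS : ¬ p ∣ Nat.card (Sylow r K) := by
    intro h
    apply hpK
    obtain ⟨S⟩ : Nonempty (Sylow r K) := inferInstance
    exact (h.trans (Sylow.card_dvd_index S)).trans (Subgroup.index_dvd_card _)
  obtain ⟨R, hR⟩ := hE.nonempty_fixed_point_of_prime_not_dvd_card (Sylow r K) hS
  have hR' : ∀ (e : E) (k : K), k ∈ R → e • k ∈ R := by
    intro e k hk
    have h1 := hR e
    have h2 : e • k ∈ (e • (R : Subgroup K) : Subgroup K) :=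
      Subgroup.smul_mem_pointwise_smul k e (R : Subgroup K) hk
    rwa [← Sylow.pointwise_smul_def, h1] at h2
  -- the centre of `R`
  let Z : Subgroup K := (Subgroup.center R).map (R : Subgroup K).subtype
  have hZmem : ∀ k : K, k ∈ Z ↔ k ∈ R ∧ ∀ r ∈ R, r * k = k * r := by
    intro k
    constructor
    · rintro ⟨z, hz, rfl⟩
      refine ⟨z.2, fun r hr => ?_⟩
      have := Subgroup.mem_center_iff.1 hz ⟨r, hr⟩
      exact congrArg Subtype.val this
    · rintro ⟨hk, hc⟩
      refine ⟨⟨k, hk⟩, ?_, rfl⟩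
      rw [SetLike.mem_coe, Subgroup.mem_center_iff]
      rintro ⟨r, hr⟩
      exact Subtype.ext (hc r hr)
  have hZsmul : ∀ (e : E) (k : K), k ∈ Z → e • k ∈ Z := by
    intro e k hk
    rw [hZmem] at hk ⊢
    refine ⟨hR' e k hk.1, fun r hr => ?_⟩
    have h1 : r = e • (e⁻¹ • r) := (smul_inv_smul e r).symm
    rw [h1, ← smul_mul', ← smul_mul', hk.2 _ (hR' e⁻¹ r hr)]
  refine ⟨Z.map K.subtype, ?_, ?_, ?_, ?_⟩
  · exact Subgroup.map_subtype_le _
  · intro h
    have h1 : Z = ⊥ := (Subgroup.map_eq_bot_iff_of_injective _ K.subtype_injective).1 h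
    have h2 : Subgroup.center R = ⊥ :=
      (Subgroup.map_eq_bot_iff_of_injective _ (R : Subgroup K).subtype_injective).1 h1
    haveI : Nontrivial R := by
      rw [Subgroup.nontrivial_iff_ne_bot]
      intro h3
      exact Sylow.ne_bot_of_dvd_card R hrK h3
    exact R.2.bot_lt_center.ne h2.symm
  · rw [isMulCommutative_iff]
    rintro ⟨_, a, ha, rfl⟩ ⟨_, b, hb, rfl⟩
    refine Subtype.ext ?_
    have := ((hZmem a).1 ha).2 b ((hZmem b).1 hb).1
    exact congrArg (fun k : K => (k : G)) this.symm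
  · have key : ∀ e ∈ E, ∀ w ∈ Z.map K.subtype, e * w * e⁻¹ ∈ Z.map K.subtype := by
      rintro e he _ ⟨k, hk, rfl⟩
      exact ⟨(⟨e, he⟩ : E) • k, hZsmul ⟨e, he⟩ k hk, hsmul ⟨e, he⟩ k⟩
    intro e he
    rw [Subgroup.mem_normalizer_iff]
    refine fun w => ⟨key e he w, fun hw => ?_⟩
    have := key e⁻¹ (E.inv_mem he) _ hw
    simpa [mul_assoc] using this

/-- In a fixed-point-free action on a nontrivial group, commuting elements of the same prime order generate
the same subgroup. -/
theorem zpowers_eq {G : Type*} [Group G] [Finite G] (A K : Subgroup G) (hK : K ≠ ⊥)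
    (hAK : A ≤ Subgroup.normalizer (K : Set G))
    (hfpf : ∀ a ∈ A, a ≠ 1 → K ⊓ Subgroup.centralizer {a} = ⊥) {p : ℕ} (hp : p.Prime) {x z : G}
    (hx : x ∈ A) (hz : z ∈ A) (hxz : x * z = z * x) (hxp : orderOf x = p) (hzp : orderOf z = p) :
    Subgroup.zpowers x = Subgroup.zpowers z := by
  haveI : Fact p.Prime := ⟨hp⟩
  set E := Subgroup.closure {x, z} with hE
  have hEA : E ≤ A := by
    rw [hE, Subgroup.closure_le]
    rintro y (rfl | rfl)
    · exact hx
    · exact hz
  have hcomm : ∀ a ∈ E, ∀ b ∈ E, a * b = b * a := by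
    have : IsMulCommutative E := by
      refine Subgroup.isMulCommutative_closure ?_
      rintro a (rfl | rfl) b (rfl | rfl)
      · rfl
      · exact hxz
      · exact hxz.symm
      · rfl
    intro a ha b hb
    exact congrArg Subtype.val (isMulCommutative_iff.1 this ⟨a, ha⟩ ⟨b, hb⟩)
  have hexp : ∀ a ∈ E, a ^ p = 1 := by
    intro a ha
    induction ha using Subgroup.closure_induction with
    | mem y hy =>
      rcases hy with rfl | rfl
      · rw [← hxp]; exact pow_orderOf_eq_one _
      · rw [← hzp]; exact pow_orderOf_eq_one _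
    | one => exact one_pow _
    | mul a b ha hb iha ihb =>
      have : Commute a b := hcomm a ha b hb
      rw [this.mul_pow, iha, ihb, one_mul]
    | inv a ha iha => rw [inv_pow, iha, inv_one]
  have hEp : IsPGroup p E := fun a => ⟨1, by
    rw [pow_one]; exact Subtype.ext (hexp a a.2)⟩
  have hx1 : x ≠ 1 := by
    rintro rfl
    rw [orderOf_one] at hxp
    exact hp.one_lt.ne hxp
  have hpK : ¬ p ∣ Nat.card K :=
    not_dvd_card (conjHom A K hAK) (a := ⟨x, hx⟩) (conjHom_fpf A K hAK hfpf ⟨x, hx⟩ (by simpa using hx1)) hp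
      (Subtype.ext (hexp x (Subgroup.subset_closure (by simp))))
  obtain ⟨W, hWK, hW, hWc, hEW⟩ :=
    exists_abelian_invariant E K hK (hEA.trans hAK) hp hEp hpK
  have hcyc : IsCyclic E := by
    haveI : Nontrivial W := (Subgroup.nontrivial_iff_ne_bot W).2 hW
    letI : CommGroup W := { (inferInstance : Group W) with mul_comm := isMulCommutative_iff.1 hWc }
    refine isCyclic_of_comm' (fun a b => Subtype.ext (hcomm a a.2 b b.2)) (conjHom E W hEW)
      (conjHom_fpf E W hEW ?_)
    intro a ha ha1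
    exact eq_bot_iff.2 ((inf_le_inf_right _ hWK).trans (hfpf a (hEA ha) ha1).le)
  have hcard : Nat.card E ≤ p := by
    obtain ⟨g, hg⟩ := hcyc.exists_generator
    rw [← orderOf_eq_card_of_forall_mem_zpowers hg]
    exact Nat.le_of_dvd hp.pos (orderOf_dvd_of_pow_eq_one (Subtype.ext (hexp g g.2)))
  have h1 : ∀ y : G, y ∈ E → orderOf y = p → Subgroup.zpowers y = E := by
    intro y hy hyp
    refine Subgroup.eq_of_le_of_card_ge ?_ ?_
    · rwa [Subgroup.zpowers_le]
    · rw [Nat.card_zpowers, hyp]; exact hcard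
  rw [h1 x (Subgroup.subset_closure (by simp)) hxp, h1 z (Subgroup.subset_closure (by simp)) hzp]

/-- A finite `p`-group in which commuting elements of order `p` generate the same subgroup has at most
one subgroup of order `p`. -/
theorem eq_of_card_eq {P : Type*} [Group P] [Finite P] {p : ℕ} (hp : p.Prime) (hP : IsPGroup p P)
    (h : ∀ x z : P, x * z = z * x → orderOf x = p → orderOf z = p →
      Subgroup.zpowers x = Subgroup.zpowers z)
    (H K : Subgroup P) (hH : Nat.card H = p) (hK : Nat.card K = p) : H = K := by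
  haveI : Fact p.Prime := ⟨hp⟩
  have hgen : ∀ L : Subgroup P, Nat.card L = p → ∃ x : P, orderOf x = p ∧ Subgroup.zpowers x = L := by
    intro L hL
    obtain ⟨x, hx⟩ := exists_prime_orderOf_dvd_card' (G := L) p (by rw [hL])
    have hx' : orderOf (x : P) = p := by rw [Subgroup.orderOf_coe, hx]
    refine ⟨x, hx', Subgroup.eq_of_le_of_card_ge ?_ ?_⟩
    · rw [Subgroup.zpowers_le]; exact x.2
    · rw [Nat.card_zpowers, hx', hL]
  obtain ⟨x, hx, rfl⟩ := hgen H hH
  obtain ⟨y, hy, rfl⟩ := hgen K hK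
  haveI : Nontrivial P := by
    refine ⟨⟨x, 1, ?_⟩⟩
    rintro rfl
    rw [orderOf_one] at hx
    exact hp.one_lt.ne hx
  haveI := hP.center_nontrivial
  have hZ : p ∣ Nat.card (Subgroup.center P) := by
    obtain ⟨n, hn, hn'⟩ := (IsPGroup.nontrivial_iff_card (hP.to_subgroup (Subgroup.center P))).1 this
    rw [hn']
    exact dvd_pow_self p hn.ne'
  obtain ⟨z, hz⟩ := exists_prime_orderOf_dvd_card' (G := Subgroup.center P) p hZ
  have hz' : orderOf (z : P) = p := by rw [Subgroup.orderOf_coe, hz]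
  rw [h x z (Subgroup.mem_center_iff.1 z.2 x) hx hz', h y z (Subgroup.mem_center_iff.1 z.2 y) hy hz']

/-- A `p`-subgroup of `G` acting fixed-point-freely on a nontrivial subgroup `K` has at most one subgroup
of order `p`. -/
theorem unique_subgroup_of_fpf {G : Type*} [Group G] [Finite G] (A K : Subgroup G) (hK : K ≠ ⊥)
    (hAK : A ≤ Subgroup.normalizer (K : Set G))
    (hfpf : ∀ a ∈ A, a ≠ 1 → K ⊓ Subgroup.centralizer {a} = ⊥) {p : ℕ} (hp : p.Prime)
    {P : Type*} [Group P] [Finite P] (hP : IsPGroup p P) (f : P →* G) (hf : Function.Injective f)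
    (hfA : ∀ x, f x ∈ A) (L₁ L₂ : Subgroup P) (h₁ : Nat.card L₁ = p) (h₂ : Nat.card L₂ = p) :
    L₁ = L₂ := by
  refine eq_of_card_eq hp hP ?_ L₁ L₂ h₁ h₂
  intro x z hxz hx hz
  have h1 : Subgroup.zpowers (f x) = Subgroup.zpowers (f z) :=
    zpowers_eq A K hK hAK hfpf hp (hfA x) (hfA z) (by rw [← map_mul, hxz, map_mul])
      (by rw [orderOf_injective f hf, hx]) (by rw [orderOf_injective f hf, hz])
  rw [← MonoidHom.map_zpowers, ← MonoidHom.map_zpowers] at h1
  exact Subgroup.map_injective hf h1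

end Cfsg.Agent.Solvable.FpfPGroup
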