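import Mathlib

/-!
Conjugacy part of the Schur-Zassenhaus theorem.
-/

set_option autoImplicit false

namespace Cfsg.Agent.Solvable.SchurZassenhausConj

open Subgroup Pointwise MulOpposite

/-- A subgroup `L` of order `K.index` is a complement to `K`, when order and index of `K` are
coprime. -/
theorem isComplement'_of_card_eq_index {G : Type*} [Group G] [Finite G]
    (K L : Subgroup G) (hcop : (Nat.card K).Coprime K.index) (hL : Nat.card L = K.index) :
    IsComplement' K L := by
  apply isComplement'_of_coprime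
  · rw [hL, K.card_mul_index]
  · rwa [hL]

/-- A complement of an abelian normal Hall subgroup is the stabilizer of its class as a
transversal. -/
theorem eq_stabilizer {G : Type*} [Group G] [Finite G] (A : Subgroup G) [A.Normal]
    [IsMulCommutative A] (hA : (Nat.card A).Coprime A.index) (H : Subgroup G)
    (hH : IsComplement' A H) :
    ∃ α : A.QuotientDiff, H = MulAction.stabilizer G α := by
  have hc : IsComplement (H : Set G) (A : Set G) := hH.symm
  let T : A.LeftTransversal := ⟨(H : Set G), hc⟩
  let α : A.QuotientDiff := Quotient.mk'' T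
  refine ⟨α, ?_⟩
  have hle : H ≤ MulAction.stabilizer G α := by
    intro h hh
    rw [MulAction.mem_stabilizer_iff]
    change (Quotient.mk'' (op h⁻¹ • T) : A.QuotientDiff) = Quotient.mk'' T
    congr 1
    apply Subtype.ext
    change op h⁻¹ • (H : Set G) = (H : Set G)
    ext x
    rw [Set.mem_smul_set_iff_inv_smul_mem]
    simp only [← op_inv, inv_inv, op_smul_eq_mul, SetLike.mem_coe]
    exact H.mul_mem_cancel_right hh
  refine eq_of_le_of_card_ge hle ?_
  have h1 := isComplement'_stabilizer_of_coprime (α := α) hA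
  have h2 : Nat.card (MulAction.stabilizer G α) = A.index := h1.card_right
  have h3 : Nat.card H = A.index := hH.card_right
  rw [h2, h3]

/-- Schur-Zassenhaus, conjugacy, abelian case. -/
theorem conj_of_abelian {G : Type*} [Group G] [Finite G] (A : Subgroup G) [A.Normal]
    [IsMulCommutative A] (hA : (Nat.card A).Coprime A.index)
    (H K : Subgroup G) (hH : IsComplement' A H) (hK : IsComplement' A K) :
    ∃ a ∈ A, MulAut.conj a • H = K := by
  obtain ⟨α, rfl⟩ := eq_stabilizer A hA H hH
  obtain ⟨β, rfl⟩ := eq_stabilizer A hA K hK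
  obtain ⟨a, ha⟩ := exists_smul_eq hA α β
  refine ⟨a, a.2, ?_⟩
  have h1 : (a : G) • α = β := ha
  rw [← h1, MulAction.stabilizer_smul_eq_stabilizer_map_conj]
  rfl

theorem coprime_subgroupOf {G : Type*} [Group G] [Finite G]
    (K : Subgroup G) [K.Normal] (hcop : (Nat.card K).Coprime K.index) (S : Subgroup G) :
    (Nat.card (K.subgroupOf S)).Coprime (K.subgroupOf S).index := by
  refine (hcop.coprime_dvd_left ?_).coprime_dvd_right ?_
  · exact Subgroup.card_comap_dvd_of_injective K S.subtype S.subtype_injective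
  · exact Subgroup.relIndex_dvd_index_of_normal K S

/-- If `N` is a normal Hall subgroup with complement `H ≤ S` then `H` is a complement of `N ∩ S`
in `S`. -/
theorem isComplement'_subgroupOf {G : Type*} [Group G] [Finite G]
    (N H S : Subgroup G) [N.Normal] (hN : (Nat.card N).Coprime N.index)
    (hH : IsComplement' N H) (hS : H ≤ S) :
    IsComplement' (N.subgroupOf S) (H.subgroupOf S) := by
  apply isComplement'_of_card_eq_index _ _ (coprime_subgroupOf N hN S)
  have hsup : N ⊔ S = ⊤ := by
    rw [eq_top_iff, ← hH.sup_eq_top]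
    exact sup_le_sup_left hS N
  have h1 : (N.subgroupOf S).index = N.index := by
    change N.relIndex S = N.index
    rw [← N.relIndex_top_right, ← hsup, sup_comm, relIndex_sup_right]
  rw [h1, ← hH.card_right]
  exact Nat.card_congr (subgroupOfEquivOfLe hS).toEquiv

/-- Transfer of conjugacy from a subgroup `S` to the whole group. -/
theorem conj_of_conj_subgroupOf {G : Type*} [Group G] (S H K : Subgroup G)
    (hH : H ≤ S) (hK : K ≤ S) (s : S)
    (hs : MulAut.conj s • H.subgroupOf S = K.subgroupOf S) :
    MulAut.conj (s : G) • H = K := by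
  have key : ∀ a : G, a ∈ S → ((s : G) * a * (s : G)⁻¹ ∈ K ↔ a ∈ H) := by
    intro a ha
    have h1 : (MulAut.conj s • (⟨a, ha⟩ : S)) ∈ MulAut.conj s • H.subgroupOf S ↔
        (⟨a, ha⟩ : S) ∈ H.subgroupOf S := smul_mem_pointwise_smul_iff
    rw [hs, mem_subgroupOf, mem_subgroupOf] at h1
    exact h1
  ext x
  rw [mem_pointwise_smul_iff_inv_smul_mem]
  have h2 : (MulAut.conj (s : G))⁻¹ • x = (s : G)⁻¹ * x * (s : G) := by
    rw [← map_inv]
    change (s : G)⁻¹ * x * (s : G)⁻¹⁻¹ = _
    rw [inv_inv]
  rw [h2]
  by_cases hx : x ∈ S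
  · have hx' : (s : G)⁻¹ * x * (s : G) ∈ S := mul_mem (mul_mem (inv_mem s.2) hx) s.2
    rw [← key _ hx']
    have h3 : (s : G) * ((s : G)⁻¹ * x * (s : G)) * (s : G)⁻¹ = x := by group
    rw [h3]
  · constructor
    · intro h
      exfalso
      apply hx
      have h4 : x = (s : G) * ((s : G)⁻¹ * x * (s : G)) * (s : G)⁻¹ := by group
      rw [h4]
      exact mul_mem (mul_mem s.2 (hH h)) (inv_mem s.2)
    · intro h
      exact absurd (hK h) hx

/-- Schur-Zassenhaus, conjugacy: solvable normal subgroup. -/
theorem conj_of_solvable_normal_aux (n : ℕ) : ∀ {G : Type*} [Group G] [Finite G] (N : Subgroup G)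
    [N.Normal], Nat.card N = n → (Nat.card N).Coprime N.index → Group.IsSolvable N →
    ∀ (H K : Subgroup G), IsComplement' N H → IsComplement' N K →
    ∃ g : G, MulAut.conj g • H = K := by
  induction n using Nat.strong_induction_on with
  | _ n ih =>
  intro G _ _ N _ hn hN hsolv H K hH hK
  by_cases hbot : N = ⊥
  · subst hbot
    rw [isComplement'_bot_left] at hH hK
    subst hH; subst hK
    exact ⟨1, by simp⟩
  -- the derived subgroup of `N`
  set D : Subgroup G := ⁅N, N⁆ with hD
  have hDN : D ≤ N := commutator_le_left N N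
  have hDlt : D < N := by
    refine lt_of_le_of_ne hDN fun h => ?_
    have : Nontrivial N := (nontrivial_iff_ne_bot N).mpr hbot
    have h1 : commutator N < ⊤ := Group.IsSolvable.commutator_lt_top_of_nontrivial N
    apply h1.ne
    apply map_injective N.subtype_injective
    rw [map_subtype_commutator, ← hD, h, ← MonoidHom.range_eq_map, N.range_subtype]
  have hDlt' : Nat.card D < n := by
    rw [← hn]
    exact Set.Finite.card_lt_card (Set.toFinite _) hDlt
  -- pass to `G ⧸ D`
  set φ : G →* G ⧸ D := QuotientGroup.mk' D with hφ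
  have hφs : Function.Surjective φ := QuotientGroup.mk'_surjective D
  have hker : φ.ker = D := QuotientGroup.ker_mk' D
  have : (N.map φ).Normal := Subgroup.Normal.map inferInstance φ hφs
  have hidx : (N.map φ).index = N.index := N.index_map_eq hφs (by rwa [hker])
  have hcardN : Nat.card (N.map φ) ∣ Nat.card N := card_map_dvd N φ
  have hcop' : (Nat.card (N.map φ)).Coprime (N.map φ).index := by
    rw [hidx]; exact hN.coprime_dvd_left hcardN
  have hab : IsMulCommutative (N.map φ) := by
    refine ⟨⟨?_⟩⟩
    rintro ⟨_, a, ha, rfl⟩ ⟨_, b, hb, rfl⟩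
    apply Subtype.ext
    change φ a * φ b = φ b * φ a
    rw [← commutatorElement_eq_one_iff_mul_comm, ← map_commutatorElement, ← MonoidHom.mem_ker,
      hker]
    exact commutator_mem_commutator ha hb
  have hcomp : ∀ L : Subgroup G, IsComplement' N L → IsComplement' (N.map φ) (L.map φ) := by
    intro L hL
    apply isComplement'_of_card_eq_index _ _ hcop'
    rw [hidx, ← hL.card_right]
    have hinj : Function.Injective (φ.subgroupMap L) := by
      rw [injective_iff_map_eq_one]
      intro a ha
      have h1 : φ (a : G) = 1 := congrArg Subtype.val ha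
      rw [← MonoidHom.mem_ker, hker] at h1
      have h2 := (disjoint_def.mp hL.disjoint) (hDN h1) a.2
      exact Subtype.ext h2
    exact (Nat.card_congr (Equiv.ofBijective _ ⟨hinj, φ.subgroupMap_surjective L⟩)).symm
  obtain ⟨a, _, ha⟩ := conj_of_abelian (N.map φ) hcop' (H.map φ) (K.map φ) (hcomp H hH) (hcomp K hK)
  obtain ⟨g, rfl⟩ := hφs a
  set H' : Subgroup G := MulAut.conj g • H with hH'
  have h1 : H'.map φ = K.map φ := by
    rw [← ha, hH']
    ext x
    simp only [mem_map, mem_smul_pointwise_iff_exists]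
    constructor
    · rintro ⟨_, ⟨y, hy, rfl⟩, rfl⟩
      exact ⟨φ y, ⟨y, hy, rfl⟩, by simp [MulAut.smul_def]⟩
    · rintro ⟨_, ⟨y, hy, rfl⟩, rfl⟩
      exact ⟨g * y * g⁻¹, ⟨y, hy, by simp [MulAut.smul_def]⟩, by simp [MulAut.smul_def]⟩
  have h2 : H' ⊔ D = K ⊔ D := by
    have h3 := congrArg (Subgroup.comap φ) h1
    rwa [comap_map_eq, comap_map_eq, hker] at h3
  have hH'c : IsComplement' N H' := by
    apply isComplement'_of_card_eq_index _ _ hN
    rw [← hH.card_right, hH']
    exact Nat.card_congr (Subgroup.equivSMul (MulAut.conj g) H).toEquiv.symm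
  set S : Subgroup G := K ⊔ D with hS
  have hH'S : H' ≤ S := by rw [← h2]; exact le_sup_left
  have hKS : K ≤ S := le_sup_left
  have hDS : D ≤ S := le_sup_right
  have hDidx : (D.subgroupOf S).index ∣ N.index := by
    have h4 : (D.subgroupOf S).index = D.relIndex K := by
      change D.relIndex S = _
      rw [hS, relIndex_sup_right]
    rw [h4, ← hK.card_right]
    exact D.relIndex_dvd_card K
  have hDcard : Nat.card (D.subgroupOf S) = Nat.card D :=
    Nat.card_congr (subgroupOfEquivOfLe hDS).toEquiv
  have hDcop : (Nat.card (D.subgroupOf S)).Coprime (D.subgroupOf S).index := by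
    rw [hDcard]
    exact (hN.coprime_dvd_left (card_dvd_of_le hDN)).coprime_dvd_right hDidx
  have hcompS : ∀ L : Subgroup G, IsComplement' N L → L ⊔ D = S →
      IsComplement' (D.subgroupOf S) (L.subgroupOf S) := by
    intro L hL hLS
    have hLS' : L ≤ S := by rw [← hLS]; exact le_sup_left
    apply isComplement'_of_card_eq_index _ _ hDcop
    have h5 : Nat.card (L.subgroupOf S) = Nat.card L :=
      Nat.card_congr (subgroupOfEquivOfLe hLS').toEquiv
    rw [h5]
    change _ = D.relIndex S
    rw [← hLS, relIndex_sup_right]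
    have h6 : D ⊓ L = ⊥ := by
      rw [eq_bot_iff, ← disjoint_iff.mp hL.disjoint]
      exact inf_le_inf_right L hDN
    rw [← inf_relIndex_right, h6, relIndex_bot_left]
  have hDsolv : Group.IsSolvable (D.subgroupOf S) := by
    have h7 : Function.Injective ((Subgroup.inclusion hDN).comp
        (subgroupOfEquivOfLe hDS).toMonoidHom) := by
      intro x y hxy
      apply (subgroupOfEquivOfLe hDS).injective
      exact Subgroup.inclusion_injective hDN hxy
    exact Group.isSolvable_of_isSolvable_injective h7
  obtain ⟨s, hs⟩ := ih (Nat.card (D.subgroupOf S)) (by rwa [hDcard]) (D.subgroupOf S) rfl hDcop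
    hDsolv (H'.subgroupOf S) (K.subgroupOf S) (hcompS H' hH'c h2) (hcompS K hK rfl)
  refine ⟨(s : G) * g, ?_⟩
  rw [map_mul, mul_smul, ← hH']
  exact conj_of_conj_subgroupOf S H' K hH'S hKS s hs

/-- A finite group with a nontrivial solvable quotient `G ⧸ N` has a normal subgroup of prime
index containing `N`. -/
theorem exists_normal_prime_index {G : Type*} [Group G] [Finite G] (N : Subgroup G) [N.Normal]
    (hN : N ≠ ⊤) (hsolv : Group.IsSolvable (G ⧸ N)) :
    ∃ M : Subgroup G, M.Normal ∧ N ≤ M ∧ M.index.Prime := by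
  have hnt : Nontrivial (G ⧸ N) := QuotientGroup.nontrivial_iff.mpr hN
  have h1 : commutator (G ⧸ N) < ⊤ := Group.IsSolvable.commutator_lt_top_of_nontrivial _
  have hntA : Nontrivial (Abelianization (G ⧸ N)) := QuotientGroup.nontrivial_iff.mpr h1.ne
  obtain ⟨M, hM, -⟩ := (eq_top_or_exists_le_coatom (⊥ : Subgroup (Abelianization (G ⧸ N)))).resolve_left
    bot_ne_top
  have hsimple : IsSimpleGroup (Abelianization (G ⧸ N) ⧸ M) := by
    have : Nontrivial (Abelianization (G ⧸ N) ⧸ M) := QuotientGroup.nontrivial_iff.mpr hM.1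
    refine ⟨fun K _ => ?_⟩
    have hs := QuotientGroup.mk'_surjective M
    rcases hM.le_iff.mp (QuotientGroup.le_comap_mk' M K) with h | h
    · right
      rw [← comap_top (QuotientGroup.mk' M)] at h
      exact comap_injective hs h
    · left
      rw [eq_bot_iff]
      intro x hx
      obtain ⟨y, rfl⟩ := hs x
      have : y ∈ M := h ▸ (mem_comap.mpr hx)
      rw [mem_bot]
      exact (QuotientGroup.eq_one_iff y).mpr this
  have hp : (Nat.card (Abelianization (G ⧸ N) ⧸ M)).Prime := IsSimpleGroup.prime_card
  let ψ : G →* (Abelianization (G ⧸ N) ⧸ M) :=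
    (QuotientGroup.mk' M).comp (Abelianization.of.comp (QuotientGroup.mk' N))
  have hψ : Function.Surjective ψ :=
    (QuotientGroup.mk'_surjective M).comp
      ((QuotientGroup.mk'_surjective _).comp (QuotientGroup.mk'_surjective N))
  refine ⟨ψ.ker, inferInstance, ?_, ?_⟩
  · intro x hx
    rw [MonoidHom.mem_ker]
    have : QuotientGroup.mk' N x = 1 := (QuotientGroup.eq_one_iff x).mpr hx
    change (QuotientGroup.mk' M) (Abelianization.of (QuotientGroup.mk' N x)) = 1
    rw [this, map_one, map_one]
  · rw [index_ker, MonoidHom.range_eq_top.mpr hψ, card_top]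
    exact hp

/-- Schur-Zassenhaus, conjugacy: solvable quotient. -/
theorem conj_of_solvable_quotient_aux (n : ℕ) : ∀ {G : Type*} [Group G] [Finite G] (N : Subgroup G)
    [N.Normal], Nat.card G = n → (Nat.card N).Coprime N.index → Group.IsSolvable (G ⧸ N) →
    ∀ (H K : Subgroup G), IsComplement' N H → IsComplement' N K →
    ∃ g : G, MulAut.conj g • H = K := by
  induction n using Nat.strong_induction_on with
  | _ n ih =>
  intro G _ _ N _ hn hN hsolv H K hH hK
  by_cases htop : N = ⊤
  · subst htop
    rw [isComplement'_top_left] at hH hK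
    subst hH; subst hK
    exact ⟨1, by simp⟩
  obtain ⟨M, hMn, hNM, hp⟩ := exists_normal_prime_index N htop hsolv
  set p := M.index with hpdef
  have : Fact p.Prime := ⟨hp⟩
  have hMtop : M ≠ ⊤ := fun h => hp.ne_one (by rw [hpdef, h, index_top])
  have hMcard : Nat.card M < n := by
    have hlt : M < ⊤ := lt_top_iff_ne_top.mpr hMtop
    rw [← hn, ← card_top (G := G)]
    exact Set.Finite.card_lt_card (Set.toFinite _) hlt
  -- the intersections with `M`
  have hNMcop : (Nat.card (N.subgroupOf M)).Coprime (N.subgroupOf M).index :=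
    coprime_subgroupOf N hN M
  have hmod : ∀ L : Subgroup G, IsComplement' N L →
      IsComplement' (N.subgroupOf M) (L.subgroupOf M) := by
    intro L hL
    have h1 : N ⊔ (L ⊓ M) = M := by
      apply le_antisymm (sup_le hNM inf_le_right)
      intro m hm
      have h2 : m ∈ N ⊔ L := by rw [hL.sup_eq_top]; exact mem_top m
      obtain ⟨a, ha, b, hb, rfl⟩ := mem_sup_of_normal_left.mp h2
      have hbM : b ∈ M := (M.mul_mem_cancel_left (hNM ha)).mp hm
      exact mul_mem_sup ha ⟨hb, hbM⟩
    have h3 : (N.subgroupOf M) ⊔ (L.subgroupOf M) = ⊤ := by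
      apply map_injective M.subtype_injective
      rw [Subgroup.map_sup, subgroupOf_map_subtype, subgroupOf_map_subtype,
        inf_eq_left.mpr hNM, h1, ← MonoidHom.range_eq_map, M.range_subtype]
    apply isComplement'_of_disjoint_and_mul_eq_univ
    · rw [disjoint_def]
      intro x hx hy
      exact Subtype.ext ((disjoint_def.mp hL.disjoint) hx hy)
    · rw [← normal_mul, h3]; rfl
  have hsolvM : Group.IsSolvable (M ⧸ N.subgroupOf M) := by
    let f : M ⧸ N.subgroupOf M →* G ⧸ N :=
      QuotientGroup.map (N.subgroupOf M) N M.subtype le_rfl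
    have hf : Function.Injective f := by
      rw [injective_iff_map_eq_one]
      intro a
      induction a using QuotientGroup.induction_on with
      | H z =>
        intro hz
        rw [QuotientGroup.eq_one_iff, mem_subgroupOf]
        exact (QuotientGroup.eq_one_iff _).mp hz
    exact Group.isSolvable_of_isSolvable_injective hf
  obtain ⟨m, hm⟩ := ih _ hMcard (N.subgroupOf M) rfl hNMcop hsolvM (H.subgroupOf M)
    (K.subgroupOf M) (hmod H hH) (hmod K hK)
  set H' : Subgroup G := MulAut.conj (m : G) • H with hH'def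
  have hH'c : IsComplement' N H' := by
    apply isComplement'_of_card_eq_index _ _ hN
    rw [← hH.card_right, hH'def]
    exact Nat.card_congr (Subgroup.equivSMul (MulAut.conj (m : G)) H).toEquiv.symm
  set D : Subgroup G := K ⊓ M with hD
  have hH'M : H' ⊓ M = D := by
    have h1 : MulAut.conj (m : G) • (H ⊓ M) = K ⊓ M := by
      apply conj_of_conj_subgroupOf M (H ⊓ M) (K ⊓ M) inf_le_right inf_le_right m
      rwa [inf_subgroupOf_right, inf_subgroupOf_right]
    have h2 : MulAut.conj (m : G) • M = M := Normal.conj_smul_eq_self (m : G) M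
    rw [hD, ← h1, smul_inf, h2]
  set L : Subgroup G := normalizer (D : Set G) with hL
  have hnormal : ∀ R : Subgroup G, R ⊓ M = D → R ≤ L := by
    intro R hR r hr
    rw [hL, mem_normalizer_iff]
    intro d
    rw [← hR, mem_inf, mem_inf]
    constructor
    · rintro ⟨h1, h2⟩
      exact ⟨mul_mem (mul_mem hr h1) (inv_mem hr), hMn.conj_mem d h2 r⟩
    · rintro ⟨h1, h2⟩
      have h3 : d = r⁻¹ * (r * d * r⁻¹) * r⁻¹⁻¹ := by group
      rw [h3]
      exact ⟨mul_mem (mul_mem (inv_mem hr) h1) (inv_mem (inv_mem hr)),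
        hMn.conj_mem _ h2 r⁻¹⟩
  have hKL : K ≤ L := hnormal K rfl
  have hH'L : H' ≤ L := hnormal H' hH'M
  have hpN : ¬ p ∣ Nat.card N := by
    intro h
    have h1 : p ∣ N.index := index_dvd_of_le hNM
    exact hp.one_lt.ne' (Nat.eq_one_of_dvd_coprimes hN h h1)
  -- Sylow subgroups of complements are Sylow subgroups of `L`
  have hsyl : ∀ R : Subgroup G, IsComplement' N R → R ≤ L → ∃ P : Subgroup G, P ≤ R ∧
      ¬ p ∣ P.relIndex R ∧ ∃ S : Sylow p L, (S : Subgroup L) = P.subgroupOf L := by
    intro R hR hRL
    let P₀ : Sylow p R := default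
    let P : Subgroup G := (P₀ : Subgroup R).map R.subtype
    have hPR : P ≤ R := map_subtype_le _
    have h1 : P.relIndex R = (P₀ : Subgroup R).index := by
      rw [relIndex]
      congr 1
      exact comap_map_eq_self_of_injective R.subtype_injective _
    have h2 : ¬ p ∣ P.relIndex R := by
      rw [h1]; exact P₀.not_dvd_index
    have h3 : IsPGroup p P := P₀.isPGroup'.map R.subtype
    have h4 : IsPGroup p (P.subgroupOf L) :=
      h3.comap_of_injective L.subtype L.subtype_injective
    have h5 : ¬ p ∣ (P.subgroupOf L).index := by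
      change ¬ p ∣ P.relIndex L
      rw [← relIndex_mul_relIndex P R L hPR hRL, hp.dvd_mul]
      rintro (h | h)
      · exact h2 h
      · have h6 := (isComplement'_subgroupOf N R L hN hR hRL).index_eq_card
        change R.relIndex L = _ at h6
        rw [h6] at h
        exact hpN (h.trans (card_comap_dvd_of_injective N L.subtype L.subtype_injective))
    exact ⟨P, hPR, h2, h4.toSylow h5, rfl⟩
  obtain ⟨P, hPH', -, SP, hSP⟩ := hsyl H' hH'c hH'L
  obtain ⟨Q, hQK, hpQ, SQ, hSQ⟩ := hsyl K hK hKL
  obtain ⟨g, hg⟩ := MulAction.exists_smul_eq L SP SQ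
  have hgPQ : MulAut.conj (g : G) • P = Q := by
    apply conj_of_conj_subgroupOf L P Q (hPH'.trans hH'L) (hQK.trans hKL) g
    rw [← hSP, ← hSQ, ← hg]
    rfl
  have hgD : MulAut.conj (g : G) • D = D := by
    have hgL : (g : G) ∈ normalizer (D : Set G) := g.2
    ext x
    rw [mem_pointwise_smul_iff_inv_smul_mem, ← map_inv]
    change (g : G)⁻¹ * x * (g : G)⁻¹⁻¹ ∈ D ↔ _
    exact ((mem_normalizer_iff.mp (inv_mem hgL)) x).symm
  have hDK : D ≤ K := inf_le_left
  -- `K = D Q`
  have hKDQ : D ⊔ Q = K := by
    have hle : D ⊔ Q ≤ K := sup_le hDK hQK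
    apply le_antisymm hle
    rw [← relIndex_eq_one]
    have h1 : D.relIndex (D ⊔ Q) * (D ⊔ Q).relIndex K = D.relIndex K :=
      relIndex_mul_relIndex _ _ _ le_sup_left hle
    have h2 : D.relIndex K = p := by
      have hsup : K ⊔ M = ⊤ := by
        rw [eq_top_iff, ← hK.sup_eq_top]
        exact sup_le (hNM.trans le_sup_right) le_sup_left
      rw [hD, inf_relIndex_left, ← relIndex_sup_right, hsup, relIndex_top_right]
    rw [h2] at h1
    rcases (Nat.dvd_prime hp).mp (Dvd.intro_left _ h1) with h3 | h3
    · exact h3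
    · exfalso
      apply hpQ
      rw [← h3]
      exact relIndex_dvd_of_le_left K le_sup_right
  refine ⟨(g : G) * m, ?_⟩
  rw [map_mul, mul_smul, ← hH'def]
  have hle : K ≤ MulAut.conj (g : G) • H' := by
    rw [← hKDQ]
    apply sup_le
    · rw [← hgD]
      exact pointwise_smul_le_pointwise_smul_iff.mpr (by rw [← hH'M]; exact inf_le_left)
    · rw [← hgPQ]
      exact pointwise_smul_le_pointwise_smul_iff.mpr hPH'
  symm
  apply eq_of_le_of_card_ge hle
  have h1 : Nat.card (MulAut.conj (g : G) • H' : Subgroup G) = Nat.card H' :=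
    Nat.card_congr (Subgroup.equivSMul (MulAut.conj (g : G)) H').toEquiv.symm
  have h2 : Nat.card H' = N.index := hH'c.card_right
  have h3 : Nat.card K = N.index := hK.card_right
  rw [h1, h2, h3]

/-- **Schur-Zassenhaus**, conjugacy part. -/
theorem conj_of_solvable {G : Type*} [Group G] [Finite G] (N : Subgroup G) [N.Normal]
    (hN : (Nat.card N).Coprime N.index) (hsolv : Group.IsSolvable N ∨ Group.IsSolvable (G ⧸ N))
    (H K : Subgroup G) (hH : IsComplement' N H) (hK : IsComplement' N K) :
    ∃ g : G, MulAut.conj g • H = K := by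
  rcases hsolv with h | h
  · exact conj_of_solvable_normal_aux _ N rfl hN h H K hH hK
  · exact conj_of_solvable_quotient_aux _ N rfl hN h H K hH hK

end Cfsg.Agent.Solvable.SchurZassenhausConj
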