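import Mathlib
import Cfsg.Prelude.Def_Solvable
import Cfsg.Agent.Solvable.FrobeniusKernel
import Cfsg.Agent.Solvable.FixedPointFree

/-!
A Frobenius group does not act fixed-point-freely on a nontrivial finite abelian group.
-/

set_option autoImplicit false

namespace Cfsg.Agent.Solvable.FrobeniusNoFPF

open Cfsg.Agent.Solvable.FrobeniusKernel

/-- The partition argument: if `B` is a Frobenius complement of the finite group `A` whose
Frobenius kernel is a subgroup, and `A` acts fixed-point-freely on the abelian group `V`, then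
`v ^ B.index = 1` for all `v`. -/
theorem pow_index_eq_one {A V : Type*} [Group A] [Finite A] [CommGroup V] (φ : A →* MulAut V)
    (h : ∀ a : A, a ≠ 1 → ∀ v : V, φ a v = v → v = 1)
    (B N : Subgroup A) (hB : Cfsg.IsFrobeniusComplement B)
    (hN : (N : Set A) = Cfsg.frobeniusKernel B) (v : V) : v ^ B.index = 1 := by
  classical
  cases nonempty_fintype A
  obtain ⟨b, hb, hb1⟩ := B.bot_or_exists_ne_one.resolve_left hB.1
  have hNbot : N ≠ ⊥ := by
    intro h0
    have h1 : Nat.card (N : Set A) = B.index := by rw [hN]; exact card_kernel hB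
    have h2 : Nat.card (N : Set A) = Nat.card N := rfl
    rw [h2, h0, Subgroup.card_bot] at h1
    exact hB.2.1 (Subgroup.index_eq_one.1 h1.symm)
  have hall : ∏ a : A, φ a v = 1 :=
    FixedPointFree.prod_eq_one φ (b := b) (h b hb1) v
  have hNprod : ∏ n : N, φ (n : A) v = 1 := by
    obtain ⟨c, hc⟩ := (Subgroup.ne_bot_iff_exists_ne_one).1 hNbot
    exact FixedPointFree.prod_eq_one (φ.comp N.subtype) (b := c) (h (c : A) (by simpa using hc)) v
  have hBprod : ∀ w : V, ∏ x : {x : A // x ∈ B ∧ x ≠ 1}, φ (x : A) w = w⁻¹ := by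
    intro w
    have h1 : ∏ x : B, φ (x : A) w = 1 :=
      FixedPointFree.prod_eq_one (φ.comp B.subtype) (b := (⟨b, hb⟩ : B)) (h b hb1) w
    rw [← Finset.prod_subtype (Finset.univ.filter (· ∈ B)) (by simp) (fun x : A => φ x w),
      ← Finset.prod_erase_mul _ _ (a := (1 : A)) (by simp), map_one] at h1
    rw [← Finset.prod_subtype ((Finset.univ.filter (· ∈ B)).erase 1)
      (by intro x; simp [and_comm]) (fun x : A => φ x w)]
    exact eq_inv_of_mul_eq_one_left h1
  -- the product over the elements outside of `N`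
  have hout : ∏ x : {x : A // ¬ x ∈ N}, φ (x : A) v = (v ^ B.index)⁻¹ := by
    have hset : ∀ x : A, x ∉ N ↔ x ∈ (Cfsg.frobeniusKernel B)ᶜ := by
      intro x
      rw [← hN]; rfl
    rw [← Finset.prod_subtype (Finset.univ.filter (· ∉ N)) (by simp) (fun x : A => φ x v),
      Finset.prod_subtype (p := (· ∈ (Cfsg.frobeniusKernel B)ᶜ)) (Finset.univ.filter (· ∉ N))
        (by intro x; simp only [Finset.mem_filter, Finset.mem_univ, true_and]; exact hset x)
        (fun x : A => φ x v)]
    rw [← (bijective_out B hB).prod_comp (fun x : ((Cfsg.frobeniusKernel B)ᶜ : Set A) => φ (x : A) v)]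
    rw [Fintype.prod_prod_type]
    have hq : ∀ q : A ⧸ B, ∏ x : {x : A // x ∈ B ∧ x ≠ 1}, φ (q.out * (x : A) * (q.out)⁻¹) v = v⁻¹ := by
      intro q
      have h2 : ∀ x : {x : A // x ∈ B ∧ x ≠ 1}, φ (q.out * (x : A) * (q.out)⁻¹) v =
          φ q.out (φ (x : A) (φ (q.out)⁻¹ v)) := by
        intro x
        rw [map_mul, map_mul]; rfl
      rw [Finset.prod_congr rfl (fun x _ => h2 x), ← map_prod, hBprod, map_inv, ← MulAut.mul_apply,
        ← map_mul, mul_inv_cancel, map_one]
      rfl
    rw [Finset.prod_congr rfl (fun q _ => hq q), Finset.prod_const, Finset.card_univ,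
      Subgroup.index, Nat.card_eq_fintype_card, inv_pow]
  have hsplit := Fintype.prod_subtype_mul_prod_subtype (fun x : A => x ∈ N) (fun x : A => φ x v)
  rw [hall] at hsplit
  have h3 : ∏ x : {x : A // x ∈ N}, φ (x : A) v = 1 := by
    rw [← hNprod]
  rw [h3, hout, one_mul, inv_eq_one] at hsplit
  exact hsplit

/-- A Frobenius group (whose kernel is a subgroup) does not act fixed-point-freely on a nontrivial
finite abelian group. -/
theorem subsingleton_of_fpf {A V : Type*} [Group A] [Finite A] [CommGroup V] [Finite V]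
    (φ : A →* MulAut V)
    (h : ∀ a : A, a ≠ 1 → ∀ v : V, φ a v = v → v = 1)
    (B N : Subgroup A) (hB : Cfsg.IsFrobeniusComplement B)
    (hN : (N : Set A) = Cfsg.frobeniusKernel B) : ∀ v : V, v = 1 := by
  intro v
  have h1 := pow_index_eq_one φ h B N hB hN v
  have hcop := FixedPointFree.coprime_card φ h
  have h2 : orderOf v ∣ B.index := orderOf_dvd_of_pow_eq_one h1
  have h3 : orderOf v ∣ Nat.card A := h2.trans B.index_dvd_card
  have h4 : orderOf v ∣ Nat.card V := orderOf_dvd_natCard v
  have h5 : orderOf v ∣ 1 := by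
    rw [← Nat.coprime_iff_gcd_eq_one.1 hcop]
    exact Nat.dvd_gcd h3 h4
  exact orderOf_eq_one_iff.1 (Nat.dvd_one.1 h5)

end Cfsg.Agent.Solvable.FrobeniusNoFPF
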