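import Mathlib
import Cfsg.Agent.Lib.SolvableNormalP

/-!
# Carter subgroups of finite solvable groups: existence and conjugacy
-/

set_option autoImplicit false

namespace Cfsg.Agent.Solvable.Carter

open Subgroup Pointwise

universe u

/-- A Carter subgroup: nilpotent and self-normalising. -/
def IsCarter {G : Type*} [Group G] (C : Subgroup G) : Prop :=
  Group.IsNilpotent C ∧ Subgroup.normalizer (C : Set G) = C

section Basic

variable {G : Type*} [Group G]

theorem mem_conj_smul_iff {g x : G} {C : Subgroup G} :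
    x ∈ MulAut.conj g • C ↔ g⁻¹ * x * g ∈ C := by
  rw [mem_pointwise_smul_iff_inv_smul_mem, ← map_inv, MulAut.smul_def, MulAut.conj_apply, inv_inv]

theorem conj_smul_eq_map (g : G) (C : Subgroup G) :
    MulAut.conj g • C = C.map (MulAut.conj g).toMonoidHom := rfl

theorem conj_smul_eq_iff_mem_normalizer {g : G} {C : Subgroup G} :
    MulAut.conj g • C = C ↔ g ∈ Subgroup.normalizer (C : Set G) := by
  rw [mem_normalizer_iff_map_conj_eq]; rfl

theorem mem_normalizer_conj_smul {g x : G} {C : Subgroup G} :
    x ∈ Subgroup.normalizer ((MulAut.conj g • C : Subgroup G) : Set G) ↔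
      g⁻¹ * x * g ∈ Subgroup.normalizer (C : Set G) := by
  rw [← conj_smul_eq_iff_mem_normalizer, ← conj_smul_eq_iff_mem_normalizer]
  constructor
  · intro h
    have := congrArg (fun K => MulAut.conj g⁻¹ • K) h
    simp only [smul_smul, ← map_mul] at this
    simpa [mul_assoc] using this
  · intro h
    have := congrArg (fun K => MulAut.conj g • K) h
    simp only [smul_smul, ← map_mul] at this ⊢
    simpa [mul_assoc] using this

theorem isNilpotent_conj {C : Subgroup G} (hC : Group.IsNilpotent C) (g : G) :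
    Group.IsNilpotent (MulAut.conj g • C : Subgroup G) :=
  Group.nilpotent_of_mulEquiv (C.equivMapOfInjective (MulAut.conj g).toMonoidHom
    (MulAut.conj g).injective)

theorem IsCarter.conj {C : Subgroup G} (hC : IsCarter C) (g : G) :
    IsCarter (MulAut.conj g • C : Subgroup G) := by
  refine ⟨isNilpotent_conj hC.1 g, ?_⟩
  ext x
  rw [mem_normalizer_conj_smul, hC.2, mem_conj_smul_iff]

theorem IsCarter.subgroupOf {C H : Subgroup G} (hC : IsCarter C) (h : C ≤ H) :
    IsCarter (C.subgroupOf H) := by
  have := hC.1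
  refine ⟨Group.nilpotent_of_mulEquiv (subgroupOfEquivOfLe h).symm, ?_⟩
  rw [← subgroupOf_normalizer_eq h, hC.2]

/-- Conjugacy of Carter subgroups of a subgroup `H` transports to `G`. -/
theorem exists_conj_of_le {H : Subgroup G}
    (IH : ∀ C D : Subgroup H, IsCarter C → IsCarter D → ∃ g : H, MulAut.conj g • C = D)
    {C D : Subgroup G} (hC : IsCarter C) (hD : IsCarter D) (hCH : C ≤ H) (hDH : D ≤ H) :
    ∃ g ∈ H, MulAut.conj g • C = D := by
  obtain ⟨g, hg⟩ := IH _ _ (hC.subgroupOf hCH) (hD.subgroupOf hDH)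
  refine ⟨g, g.2, ?_⟩
  rw [conj_smul_subgroupOf hCH, subgroupOf_inj] at hg
  rwa [inf_eq_left.mpr hDH, inf_eq_left.mpr (conj_smul_le_of_le hCH g)] at hg

/-- Images of Carter subgroups under surjections are Carter subgroups, if Carter subgroups of
proper subgroups are conjugate. -/
theorem IsCarter.map {G' : Type*} [Group G'] {f : G →* G'} (hf : Function.Surjective f)
    (IH : ∀ H : Subgroup G, H ≠ ⊤ → ∀ C D : Subgroup H, IsCarter C → IsCarter D →
      ∃ g : H, MulAut.conj g • C = D) {C : Subgroup G} (hC : IsCarter C) :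
    IsCarter (C.map f) := by
  have := hC.1
  refine ⟨Group.nilpotent_of_surjective (f.subgroupMap C) (f.subgroupMap_surjective C), ?_⟩
  refine le_antisymm ?_ le_normalizer
  intro x' hx'
  obtain ⟨x, rfl⟩ := hf x'
  by_cases hL : (C.map f).comap f = ⊤
  · have : C.map f = ⊤ := by
      rw [← map_comap_eq_self_of_surjective hf (C.map f), hL, map_top_of_surjective f hf]
    rw [this]; trivial
  · have h1 : C ≤ (C.map f).comap f := le_comap_map f C
    have h2 : MulAut.conj x • C ≤ (C.map f).comap f := by
      intro y hy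
      rw [mem_conj_smul_iff] at hy
      rw [mem_comap]
      have h3 := (mem_normalizer_iff.mp hx' (f (x⁻¹ * y * x))).mp (mem_map_of_mem f hy)
      simpa [mul_assoc] using h3
    obtain ⟨g, hg, hgC⟩ := exists_conj_of_le (IH _ hL) (hC.conj x) hC h2 h1
    rw [smul_smul, ← map_mul, conj_smul_eq_iff_mem_normalizer, hC.2] at hgC
    have h4 : x ∈ (C.map f).comap f := by
      have := mul_mem (inv_mem hg) (h1 hgC)
      simpa using this
    exact h4

/-- In a nilpotent group the only Carter subgroup is the whole group. -/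
theorem IsCarter.eq_top [Group.IsNilpotent G] {C : Subgroup G} (hC : IsCarter C) : C = ⊤ := by
  by_contra h
  have := Group.normalizerCondition_of_isNilpotent (G := G) C (lt_top_iff_ne_top.mpr h)
  rw [hC.2] at this
  exact lt_irrefl _ this

theorem isCarter_top [Group.IsNilpotent G] : IsCarter (⊤ : Subgroup G) :=
  ⟨Group.isNilpotent_top.mpr inferInstance, normalizer_eq_top _⟩

end Basic

/-- A minimal normal subgroup, elementary properties. -/
theorem exists_min_normal (G : Type*) [Group G] [Finite G] [Group.IsSolvable G] [Nontrivial G] :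
    ∃ (p : ℕ) (N : Subgroup G), p.Prime ∧ N.Normal ∧ IsPGroup p N ∧ IsMulCommutative N ∧
      N ≠ ⊥ ∧ ∀ K : Subgroup G, K.Normal → K ≤ N → K = ⊥ ∨ K = N := by
  obtain ⟨p, N, hp, hN⟩ := Cfsg.Agent.Lib.SolvableNormalP.exists_normal_pSubgroup G
  let S : Set (Subgroup G) := {N | N.Normal ∧ IsPGroup p N ∧ IsMulCommutative N ∧ N ≠ ⊥}
  obtain ⟨M, hM, hmin⟩ := (Set.toFinite S).exists_minimal ⟨N, hN⟩
  refine ⟨p, M, hp, hM.1, hM.2.1, hM.2.2.1, hM.2.2.2, ?_⟩
  intro K hK hKM
  by_cases hKb : K = ⊥
  · exact Or.inl hKb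
  · refine Or.inr (le_antisymm hKM (hmin ⟨hK, hM.2.1.to_le hKM, ?_, hKb⟩ hKM))
    rw [← le_centralizer_iff_isMulCommutative]
    have := le_centralizer_iff_isMulCommutative.mpr hM.2.2.1
    exact hKM.trans (this.trans (centralizer_le hKM))

section Steps

variable {G : Type*} [Group G] [Finite G]

/-- `G/N` nilpotent and `G` not nilpotent: a non-normal maximal subgroup is a Carter subgroup. -/
theorem exists_isCarter_of_quotient_nilpotent (hG : ¬ Group.IsNilpotent G) {N : Subgroup G}
    [N.Normal] (hcomm : IsMulCommutative N)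
    (hmin : ∀ K : Subgroup G, K.Normal → K ≤ N → K = ⊥ ∨ K = N)
    (hQ : Group.IsNilpotent (G ⧸ N)) : ∃ C : Subgroup G, IsCarter C := by
  have h0 : ¬ ∀ M : Subgroup G, IsCoatom M → M.Normal := fun h =>
    hG ((Group.isNilpotent_of_finite_tfae.out 0 2).mpr h)
  push Not at h0
  obtain ⟨M, hM, hMn⟩ := h0
  have hnorm : Subgroup.normalizer (M : Set G) = M := by
    rcases hM.le_iff.mp (le_normalizer (H := M)) with h | h
    · exact absurd (normalizer_eq_top_iff.mp h) hMn
    · exact h
  have hNM : ¬ N ≤ M := by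
    intro hNM
    have hne : M.map (QuotientGroup.mk' N) ≠ ⊤ := by
      intro h
      apply hM.1
      have := congrArg (fun K => K.comap (QuotientGroup.mk' N)) h
      simp only [comap_top] at this
      rw [comap_map_eq, QuotientGroup.ker_mk', sup_eq_left.mpr hNM] at this
      exact this
    have hlt := Group.normalizerCondition_of_isNilpotent (G := G ⧸ N) _ (lt_top_iff_ne_top.mpr hne)
    apply (ne_of_lt hlt)
    refine le_antisymm hlt.le ?_
    intro x hx
    obtain ⟨x, rfl⟩ := QuotientGroup.mk'_surjective N x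
    have hx' : x ∈ (Subgroup.normalizer ((M.map (QuotientGroup.mk' N) : Subgroup (G ⧸ N)) :
        Set (G ⧸ N))).comap (QuotientGroup.mk' N) := hx
    rw [comap_normalizer_eq_of_le_range (by
      rw [MonoidHom.range_eq_top.mpr (QuotientGroup.mk'_surjective N)]; exact le_top),
      comap_map_eq, QuotientGroup.ker_mk', sup_eq_left.mpr hNM, hnorm] at hx'
    exact mem_map_of_mem _ hx'
  have hsup : M ⊔ N = ⊤ := by
    rcases hM.le_iff.mp (le_sup_left : M ≤ M ⊔ N) with h | h
    · exact h
    · exact absurd (h ▸ le_sup_right) hNM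
  have hinf : (M ⊓ N).Normal := by
    rw [← normalizer_eq_top_iff, eq_top_iff, ← hsup, sup_le_iff]
    constructor
    · refine le_trans ?_ inf_normalizer_le_normalizer_inf
      exact le_inf le_normalizer le_normalizer_of_normal
    · intro n hn
      rw [mem_normalizer_iff]
      intro m
      have hc := le_centralizer_iff_isMulCommutative.mpr hcomm
      constructor
      · intro hm
        have : n * m * n⁻¹ = m := by
          have := (mem_centralizer_iff.mp (hc hn)) m hm.2
          rw [← this]; group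
        rwa [this]
      · intro hm
        have : n * m * n⁻¹ = m := by
          have h1 := (mem_centralizer_iff.mp (hc hn)) _ hm.2
          have h2 : n * m * n⁻¹ * n = n * m := by group
          rw [h2] at h1
          have := mul_left_cancel h1
          exact this.symm
        rwa [this] at hm
  have hbot : M ⊓ N = ⊥ := by
    rcases hmin _ hinf inf_le_right with h | h
    · exact h
    · exact absurd (inf_eq_right.mp h) hNM
  refine ⟨M, ?_, hnorm⟩
  have hker : ((QuotientGroup.mk' N).comp M.subtype).ker = ⊥ := by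
    rw [eq_bot_iff]
    intro m hm
    rw [MonoidHom.mem_ker, MonoidHom.comp_apply, QuotientGroup.mk'_apply,
      QuotientGroup.eq_one_iff] at hm
    have : (m : G) ∈ M ⊓ N := ⟨m.2, hm⟩
    rw [hbot, mem_bot] at this
    rw [mem_bot]
    exact Subtype.ext this
  exact Subgroup.isNilpotent_of_ker_le_center ((QuotientGroup.mk' N).comp M.subtype)
    (hker ▸ bot_le)

/-- If `C ⊔ N = ⊤` with `N` a normal `p`-group, then for `q ≠ p` the group `C` contains a Sylow
`q`-subgroup of `G`, normalised by `C` if `C` is nilpotent. -/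
theorem exists_sylow_le {p q : ℕ} (hp : p.Prime) [Fact q.Prime] (hpq : q ≠ p) {N C : Subgroup G}
    [N.Normal] (hN : IsPGroup p N) (hC : Group.IsNilpotent C) (hsup : C ⊔ N = ⊤) :
    ∃ Q : Sylow q G, (Q : Subgroup G) ≤ C ∧
      C ≤ Subgroup.normalizer ((Q : Subgroup G) : Set G) := by
  have := Fact.mk hp
  obtain ⟨Q⟩ : Nonempty (Sylow q C) := inferInstance
  have hindex : ¬ q ∣ C.index := by
    intro hq
    have h2 : C.index ∣ Nat.card N := by
      have e1 : N.index = N.relIndex C := by
        rw [← relIndex_sup_right, hsup, relIndex_top_right]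
      have e2 : N.relIndex C * Nat.card (N.subgroupOf C) = Nat.card C :=
        (N.subgroupOf C).index_mul_card
      have e3 := C.index_mul_card
      have e4 := N.index_mul_card
      rw [← e2, ← e1, ← e4, mul_left_comm] at e3
      have e5 := Nat.eq_of_mul_eq_mul_left (Nat.pos_of_ne_zero index_ne_zero_of_finite) e3
      exact Dvd.intro _ e5
    obtain ⟨n, hn⟩ := hN.exists_card_eq
    rw [hn] at h2
    exact hpq ((Nat.prime_dvd_prime_iff_eq Fact.out hp).mp
      (Nat.Prime.dvd_of_dvd_pow Fact.out (hq.trans h2)))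
  have hQ1 : IsPGroup q ((Q : Subgroup C).map C.subtype) := Q.2.map _
  have hQ2 : ¬ q ∣ ((Q : Subgroup C).map C.subtype).index := by
    rw [index_map_subtype, Nat.Prime.dvd_mul Fact.out]
    exact not_or.mpr ⟨Q.not_dvd_index, hindex⟩
  refine ⟨hQ1.toSylow hQ2, ?_, ?_⟩
  · exact map_subtype_le _
  · have hn : (Q : Subgroup C).Normal := inferInstance
    intro c hc
    rw [mem_normalizer_iff]
    intro x
    change x ∈ (Q : Subgroup C).map C.subtype ↔ c * x * c⁻¹ ∈ (Q : Subgroup C).map C.subtype
    constructor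
    · rintro ⟨y, hy, rfl⟩
      exact ⟨⟨c, hc⟩ * y * ⟨c, hc⟩⁻¹, hn.conj_mem y hy _, rfl⟩
    · rintro ⟨y, hy, hyx⟩
      refine ⟨⟨c, hc⟩⁻¹ * y * ⟨c, hc⟩, ?_, ?_⟩
      · have := hn.conj_mem y hy (⟨c, hc⟩⁻¹)
        rwa [inv_inv] at this
      · simp only [subtype_apply] at hyx
        simp [hyx, mul_assoc]

/-- `G = CN = DN` with `N` a normal `p`-group, `C`, `D` Carter subgroups. -/
theorem exists_conj_of_sup_eq_top (hG : ¬ Group.IsNilpotent G) {p : ℕ} (hp : p.Prime)
    {N : Subgroup G} [N.Normal] (hN : IsPGroup p N)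
    (IH : ∀ H : Subgroup G, H ≠ ⊤ → ∀ C D : Subgroup H, IsCarter C → IsCarter D →
      ∃ g : H, MulAut.conj g • C = D)
    {C D : Subgroup G} (hC : IsCarter C) (hD : IsCarter D) (hCN : C ⊔ N = ⊤) (hDN : D ⊔ N = ⊤) :
    ∃ g : G, MulAut.conj g • C = D := by
  have hCnil := hC.1
  have hQ : Group.IsNilpotent (G ⧸ N) := by
    refine Group.nilpotent_of_surjective ((QuotientGroup.mk' N).comp C.subtype) ?_
    rw [← MonoidHom.range_eq_top, MonoidHom.range_comp, range_subtype,
      ← map_top_of_surjective _ (QuotientGroup.mk'_surjective N), ← hCN, Subgroup.map_sup,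
      QuotientGroup.map_mk'_self, sup_bot_eq]
  have h0 : ¬ ∀ (q : ℕ) (_ : Fact q.Prime) (P : Sylow q G), (P : Subgroup G).Normal := fun h =>
    hG ((Group.isNilpotent_of_finite_tfae.out 0 3).mpr h)
  push Not at h0
  obtain ⟨q, hq, P, hP⟩ := h0
  have hPnorm : ∀ Q : Sylow q G, Subgroup.normalizer ((Q : Subgroup G) : Set G) ≠ ⊤ := by
    intro Q hQt
    apply hP
    have hQn := normalizer_eq_top_iff.mp hQt
    have := Sylow.unique_of_normal Q hQn
    rwa [Subsingleton.elim P Q]
  have hqp : q ≠ p := by
    rintro rfl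
    apply hP
    have hNP : N ≤ P := hN.le_sylow_of_normal P
    have hsurj := QuotientGroup.mk'_surjective N
    have hPn : (P.mapSurjective hsurj : Subgroup (G ⧸ N)).Normal := inferInstance
    have h1 : ((P.mapSurjective hsurj : Subgroup (G ⧸ N)).comap (QuotientGroup.mk' N)).Normal :=
      hPn.comap _
    have h2 : (P.mapSurjective hsurj : Subgroup (G ⧸ N)).comap (QuotientGroup.mk' N) = P := by
      change ((P : Subgroup G).map (QuotientGroup.mk' N)).comap (QuotientGroup.mk' N) = P
      rw [comap_map_eq, QuotientGroup.ker_mk', sup_eq_left.mpr hNP]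
    rwa [h2] at h1
  obtain ⟨Q₁, hQ₁, hQ₁'⟩ := exists_sylow_le hp hqp hN hC.1 hCN
  obtain ⟨Q₂, hQ₂, hQ₂'⟩ := exists_sylow_le hp hqp hN hD.1 hDN
  obtain ⟨g, hg⟩ := MulAction.exists_smul_eq G Q₁ Q₂
  have hgQ : MulAut.conj g • (Q₁ : Subgroup G) = Q₂ := by
    rw [← hg]; rfl
  have hle : MulAut.conj g • C ≤ Subgroup.normalizer ((Q₂ : Subgroup G) : Set G) := by
    intro x hx
    rw [mem_conj_smul_iff] at hx
    rw [← hgQ, mem_normalizer_conj_smul]
    exact hQ₁' hx
  obtain ⟨k, -, hk⟩ := exists_conj_of_le (IH _ (hPnorm Q₂)) (hC.conj g) hD hle hQ₂'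
  refine ⟨k * g, ?_⟩
  rw [map_mul, mul_smul, hk]

end Steps

/-- **Carter's theorem**. -/
theorem carter : ∀ (G : Type u) [Group G] [Finite G], Group.IsSolvable G →
    (∃ C : Subgroup G, IsCarter C) ∧
      ∀ C D : Subgroup G, IsCarter C → IsCarter D → ∃ g : G, MulAut.conj g • C = D := by
  refine Cfsg.Agent.Lib.SolvableNormalP.card_strong_induction
    (motive := fun G _ _ => Group.IsSolvable G → (∃ C : Subgroup G, IsCarter C) ∧
      ∀ C D : Subgroup G, IsCarter C → IsCarter D → ∃ g : G, MulAut.conj g • C = D) ?_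
  intro G _ _ IH hG
  by_cases hnil : Group.IsNilpotent G
  · exact ⟨⟨⊤, isCarter_top⟩, fun C D hC hD => ⟨1, by rw [hC.eq_top, hD.eq_top]; simp⟩⟩
  have hnt : Nontrivial G := by
    by_contra h
    rw [not_nontrivial_iff_subsingleton] at h
    exact hnil inferInstance
  obtain ⟨p, N, hp, hN, hNp, hcomm, hNb, hmin⟩ := exists_min_normal G
  have IHsub : ∀ H : Subgroup G, H ≠ ⊤ → (∃ C : Subgroup H, IsCarter C) ∧
      ∀ C D : Subgroup H, IsCarter C → IsCarter D → ∃ g : H, MulAut.conj g • C = D :=
    fun H hH => IH H (Cfsg.Agent.Lib.SolvableNormalP.card_lt_of_ne_top hH) inferInstance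
  obtain ⟨⟨K, hK⟩, hconj⟩ := IH (G ⧸ N) (Cfsg.Agent.Lib.SolvableNormalP.card_quotient_lt hNb)
    inferInstance
  have hsurj := QuotientGroup.mk'_surjective N
  constructor
  · by_cases hKt : K.comap (QuotientGroup.mk' N) = ⊤
    · have hKt' : K = ⊤ := by
        rw [← map_comap_eq_self_of_surjective hsurj K, hKt, map_top_of_surjective _ hsurj]
      subst hKt'
      exact exists_isCarter_of_quotient_nilpotent hnil hcomm hmin
        (Group.isNilpotent_top.mp hK.1)
    · obtain ⟨⟨C', hC'⟩, -⟩ := IHsub _ hKt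
      have hKn := hK.1
      have h1 : IsCarter (C'.map ((QuotientGroup.mk' N).subgroupComap K)) := by
        apply hC'.map ((QuotientGroup.mk' N).subgroupComap_surjective_of_surjective K hsurj)
        intro H hH
        refine (IH H ?_ inferInstance).2
        exact lt_trans (Cfsg.Agent.Lib.SolvableNormalP.card_lt_of_ne_top hH)
          (Cfsg.Agent.Lib.SolvableNormalP.card_lt_of_ne_top hKt)
      have h2 := h1.eq_top
      have hC'n := hC'.1
      refine ⟨C'.map (Subgroup.subtype _), ?_, le_antisymm ?_ le_normalizer⟩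
      · exact Group.nilpotent_of_mulEquiv
          (C'.equivMapOfInjective (Subgroup.subtype _) (subtype_injective _))
      · intro x hx
        have hxK : x ∈ K.comap (QuotientGroup.mk' N) := by
          rw [mem_comap, ← hK.2]
          rw [mem_normalizer_iff]
          have key : ∀ y : G ⧸ N, y ∈ K ↔
              y ∈ (C'.map (Subgroup.subtype _)).map (QuotientGroup.mk' N) := by
            intro y
            constructor
            · intro hy
              have : (⟨y, hy⟩ : K) ∈ C'.map ((QuotientGroup.mk' N).subgroupComap K) := by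
                rw [h2]; trivial
              obtain ⟨c, hc, hcy⟩ := this
              exact ⟨c, ⟨c, hc, rfl⟩, congrArg Subtype.val hcy⟩
            · rintro ⟨_, ⟨c, hc, rfl⟩, rfl⟩
              exact c.2
          have hmem : QuotientGroup.mk' N x ∈ Subgroup.normalizer
              (((C'.map (Subgroup.subtype _)).map (QuotientGroup.mk' N) : Subgroup (G ⧸ N)) :
                Set (G ⧸ N)) :=
            le_normalizer_map (QuotientGroup.mk' N) (mem_map_of_mem _ hx)
          intro y
          rw [key, key]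
          exact (mem_normalizer_iff.mp hmem) y
        have hx2 : (⟨x, hxK⟩ : K.comap (QuotientGroup.mk' N)) ∈
            Subgroup.normalizer (C' : Set (K.comap (QuotientGroup.mk' N))) := by
          rw [mem_normalizer_iff]
          intro y
          have := (mem_normalizer_iff.mp hx) (y : G)
          rw [← Subgroup.coe_subtype, mem_map_iff_mem (subtype_injective _)] at this
          rw [this]
          have h5 : x * (Subgroup.subtype (K.comap (QuotientGroup.mk' N))) y * x⁻¹ =
              (Subgroup.subtype (K.comap (QuotientGroup.mk' N)))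
                (⟨x, hxK⟩ * y * ⟨x, hxK⟩⁻¹) := by simp
          rw [h5, mem_map_iff_mem (subtype_injective _)]
        rw [hC'.2] at hx2
        exact ⟨_, hx2, rfl⟩
  · intro C D hC hD
    have hCm := hC.map hsurj (fun H hH => (IHsub H hH).2)
    have hDm := hD.map hsurj (fun H hH => (IHsub H hH).2)
    obtain ⟨g', hg'⟩ := hconj _ _ hCm hDm
    obtain ⟨g, rfl⟩ := hsurj g'
    -- replace `C` by its conjugate under `g`
    suffices h : ∃ k : G, MulAut.conj k • (MulAut.conj g • C) = D by
      obtain ⟨k, hk⟩ := h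
      exact ⟨k * g, by rw [map_mul, mul_smul, hk]⟩
    have hCg := hC.conj g
    have hCgm : (MulAut.conj g • C).map (QuotientGroup.mk' N) = D.map (QuotientGroup.mk' N) := by
      rw [← hg', conj_smul_eq_map, conj_smul_eq_map, Subgroup.map_map, Subgroup.map_map]
      congr 1
    have hsupeq : (MulAut.conj g • C) ⊔ N = D ⊔ N := by
      have := congrArg (fun K => K.comap (QuotientGroup.mk' N)) hCgm
      simp only [comap_map_eq, QuotientGroup.ker_mk'] at this
      exact this
    by_cases hL : D ⊔ N = ⊤
    · exact exists_conj_of_sup_eq_top hnil hp hNp (fun H hH => (IHsub H hH).2) hCg hD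
        (hsupeq.trans hL) hL
    · obtain ⟨k, -, hk⟩ := exists_conj_of_le ((IHsub _ hL).2) hCg hD
        (hsupeq ▸ le_sup_left) le_sup_left
      exact ⟨k, hk⟩

end Cfsg.Agent.Solvable.Carter
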