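import Mathlib

set_option autoImplicit false

open Pointwise

namespace Cfsg.Agent.Solvable.FpfComplement

/-- An automorphism `φ` of a finite group fixing only `1` fixes exactly one Sylow `p`-subgroup: existence. -/
theorem exists_sylow_smul_eq {K : Type*} [Group K] [Finite K] (p : ℕ) [Fact p.Prime]
    (φ : MulAut K) (hφ : ∀ k, φ k = k → k = 1) : ∃ S : Sylow p K, φ • S = S := by
  obtain ⟨S⟩ : Nonempty (Sylow p K) := inferInstance
  obtain ⟨k, hk⟩ := MulAction.exists_smul_eq K S (φ • S)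
  have hφ' : MonoidHom.FixedPointFree φ := hφ
  obtain ⟨y, hy⟩ := hφ'.commutatorMap_surjective k⁻¹
  rw [MonoidHom.commutatorMap_apply] at hy
  refine ⟨y⁻¹ • S, ?_⟩
  have key : ∀ (x : K) (T : Sylow p K), φ • (x • T) = φ x • (φ • T) := by
    intro x T
    rw [Sylow.smul_def, Sylow.smul_def, ← mul_smul, ← mul_smul]
    congr 1
    ext z
    simp
  rw [key, ← hk, ← mul_smul]
  rw [← inv_smul_eq_iff, ← mul_smul, inv_inv]
  have : y * (φ y⁻¹ * k) = 1 := by
    rw [← mul_assoc, map_inv, ← div_eq_mul_inv, hy, inv_mul_cancel]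
  rw [this, one_smul]

/-- An automorphism `φ` of a finite group fixing only `1` fixes exactly one Sylow `p`-subgroup: uniqueness. -/
theorem sylow_unique {K : Type*} [Group K] [Finite K] (p : ℕ) [Fact p.Prime]
    (φ : MulAut K) (hφ : ∀ k, φ k = k → k = 1) {S T : Sylow p K} (hS : φ • S = S) (hT : φ • T = T) :
    S = T := by
  have key : ∀ (x : K) (T : Sylow p K), φ • (x • T) = φ x • (φ • T) := by
    intro x T
    rw [Sylow.smul_def, Sylow.smul_def, ← mul_smul, ← mul_smul]
    congr 1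
    ext z
    simp
  obtain ⟨x, rfl⟩ := MulAction.exists_smul_eq K S T
  rw [key, hS] at hT
  have hφ' : MonoidHom.FixedPointFree φ := hφ
  -- the stabiliser of `S`
  let N : Subgroup K := MulAction.stabilizer K S
  have hN : ∀ n ∈ N, φ n ∈ N := by
    intro n hn
    have h1 : n • S = S := hn
    have h2 := congrArg (fun T => φ • T) h1
    simp only [key, hS] at h2
    exact h2
  let ψ : N →* N :=
    { toFun := fun n => ⟨φ n, hN n n.2⟩
      map_one' := by ext; simp
      map_mul' := by intro a b; ext; simp }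
  have hψ : MonoidHom.FixedPointFree ψ := by
    intro n hn
    exact Subtype.ext (hφ n (congrArg Subtype.val hn))
  have hx : x⁻¹ / φ x⁻¹ ∈ N := by
    show (x⁻¹ / φ x⁻¹) • S = S
    rw [div_eq_mul_inv, map_inv, inv_inv, mul_smul, hT, inv_smul_smul]
  obtain ⟨n, hn⟩ := hψ.commutatorMap_surjective ⟨_, hx⟩
  have hn' : (n : K) / φ n = x⁻¹ / φ x⁻¹ := congrArg Subtype.val hn
  have : (n : K) = x⁻¹ := hφ'.commutatorMap_injective (by
    simpa [MonoidHom.commutatorMap_apply] using hn')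
  have hxN : x ∈ N := by
    have h3 := N.inv_mem n.2
    rwa [this, inv_inv] at h3
  exact hxN.symm

/-- Let `K ≠ 1` be normal in the finite group `G`, `R` a subgroup, `x ∈ R` an element centralising only `1` in `K`
whose cyclic subgroup is normalised by `R`.  Then `K` contains a nontrivial abelian subgroup normalised by `R`. -/
theorem exists_abelian_invariant {G : Type*} [Group G] [Finite G] (K R : Subgroup G) [K.Normal]
    (hK : K ≠ ⊥) {x : G} (hxn : ∀ r ∈ R, r * x * r⁻¹ ∈ Subgroup.zpowers x)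
    (hfix : ∀ k ∈ K, x * k = k * x → k = 1) :
    ∃ V : Subgroup G, V ≠ ⊥ ∧ V ≤ K ∧ IsMulCommutative V ∧ ∀ r ∈ R, ∀ v ∈ V, r * v * r⁻¹ ∈ V := by
  classical
  -- pick a prime dividing the order of `K`
  have hcard : Nat.card K ≠ 1 := fun h => hK (Subgroup.card_eq_one.mp h)
  obtain ⟨p, hp, hpK⟩ := Nat.exists_prime_and_dvd hcard
  have : Fact p.Prime := ⟨hp⟩
  let φ : G →* MulAut K := MulAut.conjNormal
  have hφ : ∀ k, φ x k = k → k = 1 := by
    intro k hk
    have h1 : x * (k : G) * x⁻¹ = k := by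
      have := congrArg Subtype.val hk
      simpa [φ, MulAut.conjNormal_apply] using this
    exact Subtype.ext (hfix k k.2 (mul_inv_eq_iff_eq_mul.mp h1))
  obtain ⟨S, hS⟩ := exists_sylow_smul_eq p (φ x) hφ
  -- all elements of `R` fix `S`
  have hzp : ∀ y ∈ Subgroup.zpowers x, φ y • S = S := by
    intro y hy
    have : Subgroup.zpowers x ≤ (MulAction.stabilizer (MulAut K) S).comap φ := by
      rw [Subgroup.zpowers_le]
      exact hS
    exact this hy
  have hR : ∀ r ∈ R, φ r • S = S := by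
    intro r hr
    refine (sylow_unique p (φ x) hφ hS ?_).symm
    have h1 : φ x * φ r = φ r * φ (r⁻¹ * x * r) := by
      rw [← map_mul, ← map_mul]
      congr 1
      group
    have h2 := hxn r⁻¹ (R.inv_mem hr)
    rw [inv_inv] at h2
    rw [← mul_smul, h1, mul_smul, hzp _ h2]
  -- the centre of `S`
  have hSne : Nontrivial S := by
    rw [Subgroup.nontrivial_iff_ne_bot]
    exact S.ne_bot_of_dvd_card hpK
  have hZ : Nontrivial (Subgroup.center S) := IsPGroup.center_nontrivial S.isPGroup'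
  refine ⟨((Subgroup.center S).map (S : Subgroup K).subtype).map K.subtype, ?_, ?_, ?_, ?_⟩
  · rw [Ne, Subgroup.map_eq_bot_iff_of_injective _ K.subtype_injective,
      Subgroup.map_eq_bot_iff_of_injective _ (Subgroup.subtype_injective _)]
    exact (Subgroup.nontrivial_iff_ne_bot _).mp hZ
  · rintro _ ⟨k, -, rfl⟩
    exact k.2
  · refine ⟨⟨?_⟩⟩
    rintro ⟨_, ⟨_, ⟨a, ha, rfl⟩, rfl⟩⟩ ⟨_, ⟨_, ⟨b, hb, rfl⟩, rfl⟩⟩
    apply Subtype.ext
    have := Subgroup.mem_center_iff.mp hb a
    show ((a : K) : G) * ((b : K) : G) = ((b : K) : G) * ((a : K) : G)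
    exact_mod_cast congrArg (fun z : S => ((z : K) : G)) this
  · rintro r hr _ ⟨_, ⟨a, ha, rfl⟩, rfl⟩
    have hmemS : ∀ r ∈ R, ∀ s ∈ S, φ r s ∈ S := by
      intro r hr s hs
      have h3 : φ r s ∈ φ r • S := by
        have : (φ r) • s ∈ (φ r) • (S : Subgroup K) := Subgroup.smul_mem_pointwise_smul _ _ _ hs
        exact this
      rwa [hR r hr] at h3
    refine ⟨φ r a, ⟨⟨φ r a, hmemS r hr a a.2⟩, ?_, rfl⟩, ?_⟩
    · refine Subgroup.mem_center_iff.mpr fun b => ?_
      have hb' : φ r⁻¹ b ∈ S := hmemS r⁻¹ (R.inv_mem hr) b b.2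
      have h4 := Subgroup.mem_center_iff.mp ha ⟨_, hb'⟩
      have h5 : φ r⁻¹ b * a = a * φ r⁻¹ b := congrArg Subtype.val h4
      have h6 := congrArg (φ r) h5
      rw [map_mul, map_mul, map_inv, MulAut.apply_inv_self] at h6
      exact Subtype.ext h6
    · simp [φ, MulAut.conjNormal_apply]

/-- If `N` and `B` are finite groups of automorphisms of a commutative group `V`, `B` normalises `N`, no nontrivial
element of `B` commutes with a nontrivial element of `N` (so `NB` is a Frobenius group if both are nontrivial), and both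
`N` and `B` have no nontrivial fixed points in `V`, then `v ^ |N| = 1` for all `v ∈ V`. -/
theorem pow_card_eq_one {V R : Type*} [CommGroup V] [Group R] (φ : R →* MulAut V) (N B : Subgroup R)
    [Finite N] [Finite B] (hBN : ∀ b ∈ B, ∀ n ∈ N, b * n * b⁻¹ ∈ N)
    (hfrob : ∀ b ∈ B, b ≠ 1 → ∀ n ∈ N, n * b = b * n → n = 1)
    (hN : ∀ v, (∀ n ∈ N, φ n v = v) → v = 1) (hB : ∀ v, (∀ b ∈ B, φ b v = v) → v = 1) (v : V) :
    v ^ Nat.card N = 1 := by
  classical
  have := Fintype.ofFinite N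
  have := Fintype.ofFinite B
  -- the norm of `B` is trivial
  have hTB : ∀ w, ∏ b : B, φ (b : R) w = 1 := by
    intro w
    refine hB _ fun c hc => ?_
    rw [map_prod]
    refine Fintype.prod_equiv (Equiv.mulLeft (⟨c, hc⟩ : B)) _ _ fun b => ?_
    rw [Equiv.coe_mulLeft, Subgroup.coe_mul, map_mul, MulAut.mul_apply]
  have hTN : ∀ w, ∏ n : N, φ (n : R) w = 1 := by
    intro w
    refine hN _ fun c hc => ?_
    rw [map_prod]
    refine Fintype.prod_equiv (Equiv.mulLeft (⟨c, hc⟩ : N)) _ _ fun b => ?_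
    rw [Equiv.coe_mulLeft, Subgroup.coe_mul, map_mul, MulAut.mul_apply]
  have hP1 : ∏ b : B, ∏ n : N, φ ((n : R) * b) v = 1 := by
    rw [Finset.prod_comm]
    refine Finset.prod_eq_one fun n _ => ?_
    have : ∀ b : B, φ ((n : R) * b) v = φ (n : R) (φ (b : R) v) := fun b => by
      rw [map_mul, MulAut.mul_apply]
    simp_rw [this]
    rw [← map_prod, hTB, map_one]
  have hP2 : ∏ b : B, ∏ n : N, φ ((n : R) * b * (n : R)⁻¹) v = 1 := by
    rw [Finset.prod_comm]
    refine Finset.prod_eq_one fun n _ => ?_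
    have : ∀ b : B, φ ((n : R) * b * (n : R)⁻¹) v = φ (n : R) (φ (b : R) (φ (n : R)⁻¹ v)) := fun b => by
      rw [map_mul, map_mul, MulAut.mul_apply, MulAut.mul_apply]
    simp_rw [this]
    rw [← map_prod, hTB, map_one]
  have hne : ∀ b : B, b ≠ 1 → ∏ n : N, φ ((n : R) * b * (n : R)⁻¹) v = ∏ n : N, φ ((n : R) * b) v := by
    intro b hb
    have hmem : ∀ n : N, (n : R) * b * (n : R)⁻¹ * (b : R)⁻¹ ∈ N := by
      intro n
      have h1 := hBN b b.2 (n : R)⁻¹ (N.inv_mem n.2)
      have h2 := N.mul_mem n.2 h1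
      simpa [mul_assoc] using h2
    have hinj : Function.Injective (fun n : N => (⟨_, hmem n⟩ : N)) := by
      intro n m hnm
      have h3 : (n : R) * b * (n : R)⁻¹ * (b : R)⁻¹ = (m : R) * b * (m : R)⁻¹ * (b : R)⁻¹ :=
        congrArg Subtype.val hnm
      have h4 : (n : R) * b * (n : R)⁻¹ = (m : R) * b * (m : R)⁻¹ := mul_right_cancel h3
      have hb' : (b : R) ≠ 1 := fun h => hb (Subtype.ext h)
      have h5 := hfrob b b.2 hb' ((m : R)⁻¹ * n) (N.mul_mem (N.inv_mem m.2) n.2) (by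
        calc (m : R)⁻¹ * n * b = (m : R)⁻¹ * ((n : R) * b * (n : R)⁻¹) * n := by group
          _ = (m : R)⁻¹ * ((m : R) * b * (m : R)⁻¹) * n := by rw [h4]
          _ = b * ((m : R)⁻¹ * n) := by group)
      exact Subtype.ext (inv_mul_eq_one.mp h5).symm
    have hbij : Function.Bijective (fun n : N => (⟨_, hmem n⟩ : N)) :=
      Finite.injective_iff_bijective.mp hinj
    refine Fintype.prod_bijective _ hbij _ _ fun n => ?_
    show φ ((n : R) * b * (n : R)⁻¹) v = φ (((n : R) * b * (n : R)⁻¹ * (b : R)⁻¹) * b) v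
    rw [inv_mul_cancel_right]
  rw [← Finset.mul_prod_erase _ _ (Finset.mem_univ (1 : B))] at hP1 hP2
  have hrest : ∏ b ∈ Finset.univ.erase (1 : B), ∏ n : N, φ ((n : R) * b * (n : R)⁻¹) v =
      ∏ b ∈ Finset.univ.erase (1 : B), ∏ n : N, φ ((n : R) * b) v :=
    Finset.prod_congr rfl fun b hb => hne b (Finset.ne_of_mem_erase hb)
  have h1 : ∏ n : N, φ ((n : R) * (1 : B)) v = 1 := by
    simpa using hTN v
  have h2 : ∏ n : N, φ ((n : R) * (1 : B) * (n : R)⁻¹) v = v ^ Nat.card N := by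
    simp
  rw [hrest, h2] at hP2
  rw [h1, one_mul] at hP1
  rwa [hP1, mul_one] at hP2

end Cfsg.Agent.Solvable.FpfComplement
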