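import Mathlib

set_option autoImplicit false

namespace Cfsg.Agent.Solvable.ZGroupCenter

/-- A nontrivial finite group all of whose Sylow subgroups are cyclic, in which an element `x` of prime order
normalising the subgroup generated by an element `y` of another prime order commutes with it, has nontrivial centre. -/
theorem center_ne_bot {H : Type*} [Group H] [Finite H] [Nontrivial H] [IsZGroup H]
    (hpq : ∀ x y : H, (orderOf x).Prime → (orderOf y).Prime → orderOf x ≠ orderOf y →
      (∀ h : H, h * y * h⁻¹ ∈ Subgroup.zpowers y) → x * y = y * x) :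
    Subgroup.center H ≠ ⊥ := by
  have hDlt : commutator H < ⊤ := IsZGroup.commutator_lt H
  have hcyc : IsCyclic (commutator H) := IsZGroup.isCyclic_commutator H
  have hcop : (Nat.card (commutator H)).Coprime (commutator H).index := IsZGroup.coprime_commutator_index H
  obtain ⟨B, hB⟩ := Subgroup.exists_right_complement'_of_coprime hcop
  set D := commutator H with hD
  have hBcard : Nat.card B = D.index := hB.card_right
  have hBne : Nat.card B ≠ 1 := by
    rw [hBcard]
    intro h
    exact hDlt.ne (Subgroup.index_eq_one.mp h)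
  obtain ⟨q, hq, hqB⟩ := Nat.exists_prime_and_dvd hBne
  have : Fact q.Prime := ⟨hq⟩
  obtain ⟨⟨x, hxB⟩, hx⟩ := exists_prime_orderOf_dvd_card' (G := B) q hqB
  rw [Subgroup.orderOf_mk] at hx
  -- conjugation by a fixed element acts on `D` as a power map
  have hpow : ∀ h : H, ∃ m : ℤ, ∀ d ∈ D, h * d * h⁻¹ = d ^ m := by
    intro h
    obtain ⟨m, hm⟩ := (MulAut.conjNormal h : MulAut D).toMonoidHom.map_cyclic
    refine ⟨m, fun d hd => ?_⟩
    have := congrArg Subtype.val (hm ⟨d, hd⟩)
    simpa [MulAut.conjNormal_apply] using this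
  have hDcomm : ∀ a ∈ D, ∀ b ∈ D, a * b = b * a := by
    intro a ha b hb
    have h1 := (IsCyclic.commGroup (α := D)).mul_comm ⟨a, ha⟩ ⟨b, hb⟩
    exact congrArg Subtype.val h1
  -- `x` centralises `D`
  have hxD : ∀ d ∈ D, x * d = d * x := by
    by_contra hcon
    push Not at hcon
    let f : D →* D :=
      { toFun := fun d => ⟨x * d * x⁻¹ * (d : H)⁻¹, D.mul_mem (Subgroup.Normal.conj_mem inferInstance _ d.2 x)
          (D.inv_mem d.2)⟩
        map_one' := by ext; simp
        map_mul' := by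
          rintro ⟨a, ha⟩ ⟨b, hb⟩
          ext
          show x * (a * b) * x⁻¹ * (a * b)⁻¹ = (x * a * x⁻¹ * a⁻¹) * (x * b * x⁻¹ * b⁻¹)
          have h1 := hDcomm _ (D.inv_mem ha) _
            (D.mul_mem (Subgroup.Normal.conj_mem (inferInstance : D.Normal) _ hb x) (D.inv_mem hb))
          calc x * (a * b) * x⁻¹ * (a * b)⁻¹ = x * a * x⁻¹ * ((x * b * x⁻¹ * b⁻¹) * a⁻¹) := by group
            _ = x * a * x⁻¹ * (a⁻¹ * (x * b * x⁻¹ * b⁻¹)) := by rw [h1]
            _ = (x * a * x⁻¹ * a⁻¹) * (x * b * x⁻¹ * b⁻¹) := by group }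
    obtain ⟨d₀, hd₀, hd₀'⟩ := hcon
    have hrange : Nat.card f.range ≠ 1 := by
      intro h
      have h2 := Subgroup.card_eq_one.mp h
      have h3 : f ⟨d₀, hd₀⟩ ∈ f.range := ⟨_, rfl⟩
      rw [h2, Subgroup.mem_bot] at h3
      have h4 : x * d₀ * x⁻¹ * d₀⁻¹ = 1 := congrArg Subtype.val h3
      exact hd₀' (mul_inv_eq_iff_eq_mul.mp (mul_inv_eq_one.mp h4))
    obtain ⟨p, hp, hpf⟩ := Nat.exists_prime_and_dvd hrange
    have : Fact p.Prime := ⟨hp⟩
    obtain ⟨⟨⟨y, hyD⟩, hyr⟩, hy⟩ := exists_prime_orderOf_dvd_card' (G := f.range) p hpf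
    rw [Subgroup.orderOf_mk, Subgroup.orderOf_mk] at hy
    obtain ⟨⟨d, hd⟩, hdy⟩ := hyr
    have hdy' : x * d * x⁻¹ * d⁻¹ = y := congrArg Subtype.val hdy
    have hpD : p ∣ Nat.card D := hpf.trans (Subgroup.card_subgroup_dvd_card _)
    have hne : q ≠ p := by
      rintro rfl
      rw [← hBcard] at hcop
      exact Nat.not_coprime_of_dvd_of_dvd hq.one_lt hpD hqB hcop
    have hxy : x * y = y * x := by
      refine hpq x y (by rwa [hx]) (by rwa [hy]) (by rwa [hx, hy]) fun h => ?_
      obtain ⟨m, hm⟩ := hpow h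
      rw [hm y hyD]
      exact Subgroup.zpow_mem_zpowers y m
    have hxdx : x * d * x⁻¹ = y * d := by
      rw [← hdy', inv_mul_cancel_right]
    have hiter : ∀ n : ℕ, x ^ n * d * (x ^ n)⁻¹ = y ^ n * d := by
      intro n
      induction n with
      | zero => simp
      | succ n ih =>
        have hc : x * y ^ n = y ^ n * x := (Commute.pow_right (show Commute x y from hxy) n).eq
        calc x ^ (n + 1) * d * (x ^ (n + 1))⁻¹ = x * (x ^ n * d * (x ^ n)⁻¹) * x⁻¹ := by
              rw [pow_succ' x n]; group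
          _ = x * (y ^ n * d) * x⁻¹ := by rw [ih]
          _ = (x * y ^ n) * d * x⁻¹ := by group
          _ = y ^ n * (x * d * x⁻¹) := by rw [hc]; group
          _ = y ^ (n + 1) * d := by rw [hxdx, pow_succ]; group
    have h5 := hiter q
    have h6 : x ^ q = 1 := by rw [← hx, pow_orderOf_eq_one]
    rw [h6, one_mul, inv_one, mul_one] at h5
    have h7 : y ^ q = 1 := by
      have : y ^ q * d = 1 * d := by rw [← h5, one_mul]
      exact mul_right_cancel this
    have h8 : p ∣ q := by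
      rw [← hy]
      exact orderOf_dvd_of_pow_eq_one h7
    exact hne ((Nat.prime_dvd_prime_iff_eq hp hq).mp h8).symm
  -- `x` commutes with `B`
  have hBcomm : ∀ b ∈ B, x * b = b * x := by
    intro b hb
    have h1 : x * b * x⁻¹ * b⁻¹ ∈ D := Subgroup.commutator_mem_commutator (Subgroup.mem_top x) (Subgroup.mem_top b)
    have h2 : x * b * x⁻¹ * b⁻¹ ∈ B := B.mul_mem (B.mul_mem (B.mul_mem hxB hb) (B.inv_mem hxB)) (B.inv_mem hb)
    have h3 : x * b * x⁻¹ * b⁻¹ ∈ D ⊓ B := Subgroup.mem_inf.mpr ⟨h1, h2⟩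
    rw [hB.disjoint.eq_bot, Subgroup.mem_bot] at h3
    exact mul_inv_eq_iff_eq_mul.mp (mul_inv_eq_one.mp h3)
  intro hbot
  have hxc : x ∈ Subgroup.center H := by
    rw [Subgroup.mem_center_iff]
    intro g
    have hg : g ∈ D ⊔ B := by
      rw [hB.sup_eq_top]
      exact Subgroup.mem_top g
    obtain ⟨d, hd, b, hb, rfl⟩ := Subgroup.mem_sup_of_normal_left.mp hg
    rw [mul_assoc, ← hBcomm b hb, ← mul_assoc, ← hxD d hd, mul_assoc]
  rw [hbot, Subgroup.mem_bot] at hxc
  rw [hxc, orderOf_one] at hx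
  exact hq.one_lt.ne hx

end Cfsg.Agent.Solvable.ZGroupCenter
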